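import Groth.Prelude.Def_RelSpec
import Groth.Agent.QCoh.Basic

/-! The algebra `O_Y ×_{p_* O_X} g_* O_V` attached to a morphism `j : X ⟶ V` over `Y`. -/

noncomputable section

universe u

open CategoryTheory CategoryTheory.Limits AlgebraicGeometry TopologicalSpace Opposite

namespace Groth.Agent.Contr65

variable {X V Y : Scheme.{u}} (p : X ⟶ Y) (g : V ⟶ Y) (j : X ⟶ V) (hj : j ≫ g = p)

include hj in
lemma le_preimage_fib (U : Y.Opens) : p ⁻¹ᵁ U ≤ j ⁻¹ᵁ (g ⁻¹ᵁ U) := by
  rw [← Scheme.Hom.comp_preimage, hj]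

/-- Pullback along `j` over an open of the base. -/
def jres (U : Y.Opens) : Γ(V, g ⁻¹ᵁ U) ⟶ Γ(X, p ⁻¹ᵁ U) :=
  j.appLE (g ⁻¹ᵁ U) (p ⁻¹ᵁ U) (le_preimage_fib p g j hj U)

lemma jres_res {U U' : Y.Opens} (i : U' ≤ U) (s : Γ(V, g ⁻¹ᵁ U)) :
    jres p g j hj U' (QCoh.rres (g.preimage_mono i) s) = QCoh.rres (p.preimage_mono i) (jres p g j hj U s) := by
  unfold jres
  rw [← CommRingCat.comp_apply, ← CommRingCat.comp_apply, QCoh.rres, QCoh.rres, Scheme.Hom.map_appLE,
    Scheme.Hom.appLE_map]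

lemma app_res' {U U' : Y.Opens} (i : U' ≤ U) (a : Γ(Y, U)) :
    p.app U' (QCoh.rres i a) = QCoh.rres (p.preimage_mono i) (p.app U a) :=
  congr($(p.naturality (homOfLE i).op).hom a)

include hj in
lemma jres_app (U : Y.Opens) (r : Γ(Y, U)) : jres p g j hj U (g.app U r) = p.app U r := by
  subst hj
  unfold jres
  exact (congr($(Scheme.Hom.app_eq_appLE j).hom (g.app U r))).symm

/-- The fibre product of rings over an open. -/
def fib (U : Y.Opens) : Subring (Γ(Y, U) × Γ(V, g ⁻¹ᵁ U)) :=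
  RingHom.eqLocus ((p.app U).hom.comp (RingHom.fst _ _)) ((jres p g j hj U).hom.comp (RingHom.snd _ _))

lemma mem_fib {U : Y.Opens} (b : Γ(Y, U) × Γ(V, g ⁻¹ᵁ U)) :
    b ∈ fib p g j hj U ↔ p.app U b.1 = jres p g j hj U b.2 := Iff.rfl

/-- Restriction. -/
def fibMap {U U' : Y.Opens} (i : U' ≤ U) : fib p g j hj U →+* fib p g j hj U' :=
  ((RingHom.prodMap (QCoh.rres i).hom (QCoh.rres (g.preimage_mono i)).hom).comp (fib p g j hj U).subtype).codRestrict
    (fib p g j hj U') fun b => by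
      have h : p.app U b.1.1 = jres p g j hj U b.1.2 := b.2
      rw [mem_fib]
      change p.app U' (QCoh.rres i b.1.1) = jres p g j hj U' (QCoh.rres (g.preimage_mono i) b.1.2)
      rw [jres_res (i := i), app_res', h]

/-- The presheaf. -/
def fibPre : TopCat.Presheaf CommRingCat.{u} Y.carrier where
  obj U := CommRingCat.of (fib p g j hj U.unop)
  map i := CommRingCat.ofHom (fibMap p g j hj i.unop.le)
  map_id U := CommRingCat.hom_ext (RingHom.ext fun b => Subtype.ext (Prod.ext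
    (QCoh.rres_self _ b.1.1) (QCoh.rres_self _ b.1.2)))
  map_comp i k := CommRingCat.hom_ext (RingHom.ext fun b => Subtype.ext (Prod.ext
    (QCoh.rres_rres i.unop.le k.unop.le b.1.1).symm
    (QCoh.rres_rres (g.preimage_mono i.unop.le) (g.preimage_mono k.unop.le) b.1.2).symm))

theorem isSheaf_fibPre : (fibPre p g j hj).IsSheaf := by
  rw [TopCat.Presheaf.isSheaf_iff_isSheaf_comp (forget CommRingCat)]
  refine TopCat.Presheaf.isSheaf_of_isSheafUniqueGluing_types _ ?_
  intro ι U sf hsf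
  let a : ∀ i, Γ(Y, U i) := fun i => (show fib p g j hj (U i) from sf i).1.1
  let s : ∀ i, Γ(V, g ⁻¹ᵁ U i) := fun i => (show fib p g j hj (U i) from sf i).1.2
  have ha : TopCat.Presheaf.IsCompatible Y.presheaf U a := fun i k =>
    congrArg (fun b : fib p g j hj (U i ⊓ U k) => b.1.1) (hsf i k)
  obtain ⟨A, hA, hAu⟩ : ∃ A : Γ(Y, iSup U), (∀ i, QCoh.rres (le_iSup U i) A = a i) ∧
      ∀ B : Γ(Y, iSup U), (∀ i, QCoh.rres (le_iSup U i) B = a i) → B = A :=
    TopCat.Sheaf.existsUnique_gluing' Y.sheaf U (iSup U) (fun i => homOfLE (le_iSup U i)) le_rfl a ha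
  obtain ⟨S, hS, hSu⟩ : ∃ S : Γ(V, g ⁻¹ᵁ iSup U), (∀ i, QCoh.rres (g.preimage_mono (le_iSup U i)) S = s i) ∧
      ∀ T : Γ(V, g ⁻¹ᵁ iSup U), (∀ i, QCoh.rres (g.preimage_mono (le_iSup U i)) T = s i) → T = S :=
    TopCat.Sheaf.existsUnique_gluing' V.sheaf (fun i => g ⁻¹ᵁ U i) (g ⁻¹ᵁ iSup U)
    (fun i => homOfLE (g.preimage_mono (le_iSup U i))) (g.preimage_iSup U).le s
    (fun i k => congrArg (fun b : fib p g j hj (U i ⊓ U k) => b.1.2) (hsf i k))
  have hmem : (A, S) ∈ fib p g j hj (iSup U) := by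
    rw [mem_fib]
    refine TopCat.Sheaf.eq_of_locally_eq' X.sheaf (fun i => p ⁻¹ᵁ U i) (p ⁻¹ᵁ iSup U)
      (fun i => homOfLE (p.preimage_mono (le_iSup U i))) (p.preimage_iSup U).le _ _ fun i => ?_
    change QCoh.rres (p.preimage_mono (le_iSup U i)) (p.app (iSup U) A) =
      QCoh.rres (p.preimage_mono (le_iSup U i)) (jres p g j hj (iSup U) S)
    rw [← app_res' p (le_iSup U i), ← jres_res p g j hj (le_iSup U i)]
    rw [hA i, hS i]
    exact (show fib p g j hj (U i) from sf i).2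
  refine ⟨(⟨(A, S), hmem⟩ : fib p g j hj (iSup U)), fun i => ?_, fun b hb => ?_⟩
  · exact Subtype.ext (Prod.ext (hA i) (hS i))
  · refine Subtype.ext (Prod.ext ?_ ?_)
    · exact hAu _ fun i => congrArg (fun b : fib p g j hj (U i) => b.1.1) (hb i)
    · exact hSu _ fun i => congrArg (fun b : fib p g j hj (U i) => b.1.2) (hb i)

/-- The structure map. -/
def fibStr : Y.presheaf ⟶ fibPre p g j hj where
  app U := CommRingCat.ofHom (((RingHom.id _).prod (g.app U.unop).hom).codRestrict (fib p g j hj U.unop)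
    fun r => (jres_app p g j hj U.unop r).symm)
  naturality U U' i := CommRingCat.hom_ext (RingHom.ext fun r => Subtype.ext (Prod.ext rfl
    (congr($(g.naturality i).hom r))))

variable [QuasiCompact p] [QuasiSeparated p] [QuasiCompact g] [QuasiSeparated g]

theorem isQC_fibPre : RelSpec.IsQC (fibPre p g j hj) (fibStr p g j hj) := by
  intro U hU r
  have hle := Y.basicOpen_le r
  let algB : Algebra (fib p g j hj U) (fib p g j hj (Y.basicOpen r)) := (fibMap p g j hj hle).toAlgebra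
  let algY := (Y.presheaf.map (homOfLE hle).op).hom.toAlgebra
  have locY : IsLocalization.Away r Γ(Y, Y.basicOpen r) := hU.isLocalization_basicOpen r
  let algV : Algebra Γ(V, g ⁻¹ᵁ U) Γ(V, g ⁻¹ᵁ Y.basicOpen r) :=
    (V.presheaf.map (homOfLE (g.preimage_mono hle)).op).hom.toAlgebra
  have locV : IsLocalization.Away (g.app U r) Γ(V, g ⁻¹ᵁ Y.basicOpen r) :=
    RelSpec.QCAlg.isQC_pushforward g U hU r
  let algX : Algebra Γ(X, p ⁻¹ᵁ U) Γ(X, p ⁻¹ᵁ Y.basicOpen r) :=
    (X.presheaf.map (homOfLE (p.preimage_mono hle)).op).hom.toAlgebra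
  have locX : IsLocalization.Away (p.app U r) Γ(X, p ⁻¹ᵁ Y.basicOpen r) :=
    RelSpec.QCAlg.isQC_pushforward p U hU r
  let c : fib p g j hj U := ((fibStr p g j hj).app (op U)).hom r
  change IsLocalization.Away c (fib p g j hj (Y.basicOpen r))
  refine IsLocalization.Away.mk c ?_ ?_ ?_
  · have hu : IsUnit (QCoh.rres hle r) := Y.toRingedSpace.isUnit_res_basicOpen r
    exact congr($((fibStr p g j hj).naturality (homOfLE hle).op).hom r) ▸
      hu.map ((fibStr p g j hj).app (op (Y.basicOpen r))).hom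
  · rintro ⟨⟨a, s⟩, hb⟩
    rw [mem_fib] at hb
    obtain ⟨n, a₀, ha⟩ := IsLocalization.Away.surj r a
    obtain ⟨n', s₀, hs⟩ := IsLocalization.Away.surj (g.app U r) s
    replace ha : a * QCoh.rres hle r ^ n = QCoh.rres hle a₀ := ha
    replace hs : s * QCoh.rres (g.preimage_mono hle) (g.app U r) ^ n' = QCoh.rres (g.preimage_mono hle) s₀ := hs
    let d := p.app U (r ^ n' * a₀) - jres p g j hj U (g.app U r ^ n * s₀)
    have hd : algebraMap Γ(X, p ⁻¹ᵁ U) Γ(X, p ⁻¹ᵁ Y.basicOpen r) d =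
        algebraMap Γ(X, p ⁻¹ᵁ U) Γ(X, p ⁻¹ᵁ Y.basicOpen r) 0 := by
      change QCoh.rres (p.preimage_mono hle) d = QCoh.rres (p.preimage_mono hle) 0
      simp only [d]
      rw [map_zero, map_sub, ← app_res' p hle, ← jres_res p g j hj hle, map_mul (QCoh.rres hle).hom, map_pow (QCoh.rres hle).hom,
        map_mul (QCoh.rres (g.preimage_mono hle)).hom, map_pow (QCoh.rres (g.preimage_mono hle)).hom, ← ha, ← hs]
      simp only [map_mul, map_pow]
      rw [hb, jres_res (i := hle), jres_app, app_res']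
      ring
    obtain ⟨⟨_, m, rfl⟩, hm⟩ := (IsLocalization.eq_iff_exists (Submonoid.powers (p.app U r)) _).1 hd
    refine ⟨m + n + n', ⟨(r ^ (m + n') * a₀, g.app U r ^ (m + n) * s₀), ?_⟩, ?_⟩
    · rw [mem_fib]
      simp only [mul_zero] at hm
      rw [map_mul, map_mul, map_pow, map_pow, jres_app]
      simp only [d, map_mul, map_pow, jres_app] at hm
      rw [pow_add, pow_add]
      linear_combination hm
    · refine Subtype.ext (Prod.ext ?_ ?_)
      · change a * QCoh.rres hle r ^ (m + n + n') = QCoh.rres hle (r ^ (m + n') * a₀)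
        rw [map_mul, map_pow, ← ha]; ring
      · change s * QCoh.rres (g.preimage_mono hle) (g.app U r) ^ (m + n + n') =
          QCoh.rres (g.preimage_mono hle) (g.app U r ^ (m + n) * s₀)
        rw [map_mul, map_pow, ← hs]; ring
  · rintro ⟨⟨a, s⟩, hb⟩ ⟨⟨a', s'⟩, hb'⟩ h
    have h1 : algebraMap Γ(Y, U) Γ(Y, Y.basicOpen r) a = algebraMap Γ(Y, U) Γ(Y, Y.basicOpen r) a' :=
      congrArg (fun b : fib p g j hj (Y.basicOpen r) => b.1.1) h
    have h2 : algebraMap Γ(V, g ⁻¹ᵁ U) Γ(V, g ⁻¹ᵁ Y.basicOpen r) s =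
        algebraMap Γ(V, g ⁻¹ᵁ U) Γ(V, g ⁻¹ᵁ Y.basicOpen r) s' :=
      congrArg (fun b : fib p g j hj (Y.basicOpen r) => b.1.2) h
    obtain ⟨⟨_, m, rfl⟩, hm⟩ := (IsLocalization.eq_iff_exists (Submonoid.powers r) _).1 h1
    obtain ⟨⟨_, m', rfl⟩, hm'⟩ := (IsLocalization.eq_iff_exists (Submonoid.powers (g.app U r)) _).1 h2
    refine ⟨m + m', Subtype.ext (Prod.ext ?_ ?_)⟩
    · change r ^ (m + m') * a = r ^ (m + m') * a'
      rw [add_comm m m', pow_add, mul_assoc, mul_assoc, hm]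
    · change g.app U r ^ (m + m') * s = g.app U r ^ (m + m') * s'
      rw [pow_add, mul_assoc, mul_assoc, hm']

/-- The algebra `O_Y ×_{p_* O_X} g_* O_V`. -/
def fibAlg : RelSpec.QCAlg Y := ⟨fibPre p g j hj, isSheaf_fibPre p g j hj, fibStr p g j hj, isQC_fibPre p g j hj⟩

/-- The first projection. -/
def fibFst : fibAlg p g j hj ⟶ RelSpec.QCAlg.unit Y where
  hom := { app := fun U => CommRingCat.ofHom ((RingHom.fst _ _).comp (fib p g j hj U.unop).subtype)
           naturality := fun _ _ _ => rfl }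
  comm := rfl

/-- The second projection. -/
def fibSnd : fibAlg p g j hj ⟶ RelSpec.QCAlg.directImage g where
  hom := { app := fun U => CommRingCat.ofHom ((RingHom.snd _ _).comp (fib p g j hj U.unop).subtype)
           naturality := fun _ _ _ => rfl }
  comm := rfl

end Groth.Agent.Contr65

end
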