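import Groth.Agent.Contr65.Tau
import Mathlib.RingTheory.PowerSeries.Basic
import Mathlib.RingTheory.PowerSeries.Inverse

/-! A contraction of the zero section makes the line bundle relatively ample (power series along the zero
section). -/

noncomputable section

universe u

open CategoryTheory CategoryTheory.Limits AlgebraicGeometry TopologicalSpace Opposite
open RelProj
open Groth.Agent.Props.GenLocus Groth.Agent.Props.GenTensor Groth.Agent.Props.GenProd

namespace Groth.Agent.Contr65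

/-- Evaluation of a function along a morphism from an affine scheme. -/
def ev {V : Scheme.{u}} {R : CommRingCat.{u}} (ψ : Spec R ⟶ V) (N : V.Opens) (h : ⊤ ≤ ψ ⁻¹ᵁ N) :
    Γ(V, N) ⟶ R :=
  ψ.appLE N ⊤ h ≫ (Scheme.ΓSpecIso R).hom

lemma ev_congr {V : Scheme.{u}} {R : CommRingCat.{u}} {ψ ψ' : Spec R ⟶ V} (e : ψ = ψ') (N : V.Opens)
    (h : ⊤ ≤ ψ ⁻¹ᵁ N) : ev ψ N h = ev ψ' N (e ▸ h) := by
  subst e; rfl

lemma ev_comp {V : Scheme.{u}} {R S : CommRingCat.{u}} (ψ : Spec R ⟶ V) (G : R ⟶ S) (N : V.Opens)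
    (h : ⊤ ≤ ψ ⁻¹ᵁ N) (h' : ⊤ ≤ (Spec.map G ≫ ψ) ⁻¹ᵁ N) :
    ev (Spec.map G ≫ ψ) N h' = ev ψ N h ≫ G := by
  rw [ev, ev, Category.assoc, ← Scheme.ΓSpecIso_naturality G, ← Category.assoc]
  congr 1

lemma ev_factor {V X : Scheme.{u}} {R : CommRingCat.{u}} (a : Spec R ⟶ X) (j : X ⟶ V) (N : V.Opens)
    (W : X.Opens) (hW : ⊤ ≤ a ⁻¹ᵁ W) (h : W ≤ j ⁻¹ᵁ N) (h' : ⊤ ≤ (a ≫ j) ⁻¹ᵁ N) :
    ev (a ≫ j) N h' = j.appLE N W h ≫ ev a W hW := by
  rw [ev, ev, ← Category.assoc, Scheme.Hom.appLE_comp_appLE]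

lemma ev_basicOpen {V : Scheme.{u}} {R : CommRingCat.{u}} (ψ : Spec R ⟶ V) (N : V.Opens)
    (h : ⊤ ≤ ψ ⁻¹ᵁ N) (f : Γ(V, N)) (P : Spec R) :
    ψ P ∈ V.basicOpen f ↔ (ev ψ N h).hom f ∉ P.asIdeal := by
  have h1 : ψ P ∈ V.basicOpen f ↔ P ∈ (Spec R).basicOpen (ψ.appLE N ⊤ h f) := by
    rw [Scheme.Hom.appLE, CommRingCat.comp_apply, Scheme.basicOpen_res, ← Scheme.preimage_basicOpen]
    exact ⟨fun h => ⟨trivial, h⟩, fun h => h.2⟩
  rw [h1, basicOpen_eq_of_affine']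
  rfl

variable {X : Scheme.{u}} {L : X.Modules} {𝒜 : QCGrAlg X}
  [L.IsQuasicoherent] {jL : L ⟶ 𝒜.toModule} (hA : IsGrSymAlg L 𝒜 jL)
  {aug : 𝒜.toQCAlg ⟶ RelSpec.QCAlg.unit X} (haug : RelCone.IsAugmentation 𝒜 aug)
  {j0 : X ⟶ 𝒜.toQCAlg.spec} (hj0 : RelCone.IsVertex 𝒜 aug j0)

set_option allowUnsafeReducibility true in
attribute [local reducible] RelSpec.QCAlg.unit

local notation "π" => 𝒜.toQCAlg.π

/-- Expansion along the zero section. -/
def ser {W : X.Opens} (hW : IsAffineOpen W) {e : Γ(L, W)} (he : IsGen L W e) :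
    (𝒜.presheaf.obj (op W) : Type u) →+* PowerSeries Γ(X, W) :=
  (Polynomial.coeToPowerSeries.ringHom).comp
    (RingEquiv.ofBijective _ (polyHom_bijective hA hW he)).symm.toRingHom

lemma ser_polyHom {W : X.Opens} (hW : IsAffineOpen W) {e : Γ(L, W)} (he : IsGen L W e)
    (q : Polynomial Γ(X, W)) : ser hA hW he (polyHom jL e q) = (q : PowerSeries Γ(X, W)) := by
  have h := (RingEquiv.ofBijective _ (polyHom_bijective hA hW he)).symm_apply_apply q
  exact congrArg (Polynomial.coeToPowerSeries.ringHom) h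

lemma ser_str {W : X.Opens} (hW : IsAffineOpen W) {e : Γ(L, W)} (he : IsGen L W e) (r : Γ(X, W)) :
    ser hA hW he ((𝒜.str.app (op W)).hom r) = PowerSeries.C r := by
  have : polyHom jL e (Polynomial.C r) = (𝒜.str.app (op W)).hom r := Polynomial.eval₂_C _ _
  rw [← this, ser_polyHom, Polynomial.coe_C]

lemma ser_gen {W : X.Opens} (hW : IsAffineOpen W) {e : Γ(L, W)} (he : IsGen L W e) :
    ser hA hW he (jL.app W e) = PowerSeries.X := by
  have : polyHom jL e Polynomial.X = jL.app W e := Polynomial.eval₂_X _ _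
  rw [← this, ser_polyHom, Polynomial.coe_X]

include hA in
lemma ser_ext {W : X.Opens} (hW : IsAffineOpen W) {e : Γ(L, W)} (he : IsGen L W e) {S : Type u} [CommRing S]
    {F G : (𝒜.presheaf.obj (op W) : Type u) →+* S}
    (h1 : ∀ r, F ((𝒜.str.app (op W)).hom r) = G ((𝒜.str.app (op W)).hom r))
    (h2 : F (jL.app W e) = G (jL.app W e)) : F = G := by
  refine RingHom.ext fun a => ?_
  obtain ⟨q, rfl⟩ := (polyHom_bijective hA hW he).2 a
  refine RingHom.congr_fun (Polynomial.ringHom_ext (f := F.comp (polyHom jL e)) (g := G.comp (polyHom jL e))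
    (fun r => ?_) ?_) q
  · change F (polyHom jL e (Polynomial.C r)) = G (polyHom jL e (Polynomial.C r))
    rw [show polyHom jL e (Polynomial.C r) = (𝒜.str.app (op W)).hom r from Polynomial.eval₂_C _ _, h1]
  · change F (polyHom jL e Polynomial.X) = G (polyHom jL e Polynomial.X)
    rw [show polyHom jL e Polynomial.X = jL.app W e from Polynomial.eval₂_X _ _, h2]

/-- The formal neighbourhood of the zero section over `W`. -/
def nbhd {W : X.Opens} (hW : IsAffineOpen W) {e : Γ(L, W)} (he : IsGen L W e) :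
    Spec (CommRingCat.of (PowerSeries Γ(X, W))) ⟶ 𝒜.toQCAlg.spec :=
  Spec.map (CommRingCat.ofHom (ser hA hW he)) ≫ 𝒜.toQCAlg.ι W hW

lemma nbhd_π {W : X.Opens} (hW : IsAffineOpen W) {e : Γ(L, W)} (he : IsGen L W e) :
    nbhd hA hW he ≫ π = Spec.map (CommRingCat.ofHom (PowerSeries.C (R := Γ(X, W)))) ≫ hW.fromSpec := by
  rw [nbhd, Category.assoc, 𝒜.toQCAlg.ι_π, ← Spec.map_comp_assoc]
  congr 2
  exact CommRingCat.hom_ext (RingHom.ext (ser_str hA hW he))

include haug hj0 in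
lemma const_nbhd {W : X.Opens} (hW : IsAffineOpen W) {e : Γ(L, W)} (he : IsGen L W e) :
    Spec.map (CommRingCat.ofHom (PowerSeries.constantCoeff (R := Γ(X, W)))) ≫ nbhd hA hW he =
      hW.fromSpec ≫ j0 := by
  rw [nbhd, hj0.chart W hW, ← Spec.map_comp_assoc]
  congr 2
  refine CommRingCat.hom_ext ?_
  change PowerSeries.constantCoeff.comp (ser hA hW he) = (aug.hom.app (op W)).hom
  refine ser_ext hA hW he (fun r => ?_) ?_
  · rw [RingHom.comp_apply, ser_str, PowerSeries.constantCoeff_C]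
    exact (RelSpecLib.str_comp_app aug W r).symm
  · rw [RingHom.comp_apply, ser_gen, PowerSeries.constantCoeff_X]
    exact (haug W hW 0 _ (hA.2 W hW e)).symm

include haug hj0 in
/-- The formal neighbourhood lies in every neighbourhood of the zero section. -/
lemma top_le_nbhd {W : X.Opens} (hW : IsAffineOpen W) {e : Γ(L, W)} (he : IsGen L W e)
    {N : 𝒜.toQCAlg.spec.Opens} (hN : W ≤ j0 ⁻¹ᵁ N) : ⊤ ≤ nbhd hA hW he ⁻¹ᵁ N := by
  intro P _
  let P' : PrimeSpectrum (PowerSeries Γ(X, W)) := P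
  have hne : P'.asIdeal ⊔ Ideal.span {PowerSeries.X} ≠ ⊤ := by
    intro h
    obtain ⟨i, hi, b, hb, hib⟩ := Submodule.mem_sup.1 ((Ideal.eq_top_iff_one _).1 h)
    obtain ⟨c, rfl⟩ := Ideal.mem_span_singleton'.1 hb
    refine P'.isPrime.ne_top (Ideal.eq_top_of_isUnit_mem _ hi ?_)
    refine PowerSeries.isUnit_iff_constantCoeff.2 ?_
    have := congrArg (PowerSeries.constantCoeff (R := Γ(X, W))) hib
    rw [map_add, map_mul, PowerSeries.constantCoeff_X, mul_zero, add_zero, map_one] at this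
    rw [this]
    exact isUnit_one
  obtain ⟨M, hM, hle⟩ := Ideal.exists_le_maximal _ hne
  let M' : Spec (CommRingCat.of (PowerSeries Γ(X, W))) := (⟨M, hM.isPrime⟩ : PrimeSpectrum _)
  have hspec : P ⤳ M' := (PrimeSpectrum.le_iff_specializes P' ⟨M, hM.isPrime⟩).1 (le_sup_left.trans hle)
  obtain ⟨m, hm⟩ : M' ∈ Set.range
      (Spec.map (CommRingCat.ofHom (PowerSeries.constantCoeff (R := Γ(X, W))))).base := by
    change (⟨M, hM.isPrime⟩ : PrimeSpectrum (PowerSeries Γ(X, W))) ∈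
      Set.range (PrimeSpectrum.comap (PowerSeries.constantCoeff (R := Γ(X, W))))
    rw [range_comap_of_surjective _ _ PowerSeries.constantCoeff_surj]
    intro s hs
    obtain ⟨t, rfl⟩ := PowerSeries.X_dvd_iff.2 hs
    exact M.mul_mem_right _ (hle (Submodule.mem_sup_right (Ideal.mem_span_singleton_self _)))
  refine hspec.map (nbhd hA hW he).continuous |>.mem_open N.2 ?_
  rw [← hm]
  have h1 : (Spec.map (CommRingCat.ofHom (PowerSeries.constantCoeff (R := Γ(X, W)))) ≫ nbhd hA hW he) m ∈ N := by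
    rw [const_nbhd hA haug hj0 hW he]
    exact hN (hW.range_fromSpec.le ⟨m, rfl⟩)
  exact h1

/-- The expansion of a function near the zero section. -/
def tay {W : X.Opens} (hW : IsAffineOpen W) {e : Γ(L, W)} (he : IsGen L W e)
    {N : 𝒜.toQCAlg.spec.Opens} (hN : W ≤ j0 ⁻¹ᵁ N) (f : Γ(𝒜.toQCAlg.spec, N)) : PowerSeries Γ(X, W) :=
  (ev (nbhd hA hW he) N (top_le_nbhd hA haug hj0 hW he hN)).hom f

include haug hj0 in
lemma tay_res {W W' : X.Opens} (hW : IsAffineOpen W) (hW' : IsAffineOpen W') (h : W' ≤ W) {e : Γ(L, W)}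
    (he : IsGen L W e) {N : 𝒜.toQCAlg.spec.Opens} (hN : W ≤ j0 ⁻¹ᵁ N) (f : Γ(𝒜.toQCAlg.spec, N)) :
    tay hA haug hj0 hW' (he.restrict h) (h.trans hN) f =
      PowerSeries.map (QCoh.rres h).hom (tay hA haug hj0 hW he hN f) := by
  have e1 : nbhd hA hW' (he.restrict h) =
      Spec.map (CommRingCat.ofHom (PowerSeries.map (QCoh.rres h).hom)) ≫ nbhd hA hW he := by
    rw [nbhd, nbhd, ← RelSpecLib.map_res_ι 𝒜.toQCAlg hW hW' h, ← Spec.map_comp_assoc, ← Spec.map_comp_assoc]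
    congr 2
    refine CommRingCat.hom_ext ?_
    change (ser hA hW' (he.restrict h)).comp (𝒜.presheaf.map (homOfLE h).op).hom =
      (PowerSeries.map (QCoh.rres h).hom).comp (ser hA hW he)
    refine ser_ext hA hW he (fun r => ?_) ?_
    · rw [RingHom.comp_apply, RingHom.comp_apply, ser_str]
      have : (𝒜.presheaf.map (homOfLE h).op).hom ((𝒜.str.app (op W)).hom r) =
          (𝒜.str.app (op W')).hom (QCoh.rres h r) := congr($(𝒜.str.naturality (homOfLE h).op).hom r).symm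
      rw [this, ser_str, PowerSeries.map_C]
    · rw [RingHom.comp_apply, RingHom.comp_apply, ser_gen, PowerSeries.map_X,
        ← ser_gen hA hW' (he.restrict h)]
      exact congrArg _ (QCoh.app_res jL h e).symm
  unfold tay
  rw [ev_congr e1, ev_comp _ _ N (top_le_nbhd hA haug hj0 hW he hN)]
  rfl

include haug hj0 in
lemma tay_smul {W : X.Opens} (hW : IsAffineOpen W) {e : Γ(L, W)} (he : IsGen L W e) {v : Γ(X, W)}
    (hv : IsUnit v) {N : 𝒜.toQCAlg.spec.Opens} (hN : W ≤ j0 ⁻¹ᵁ N) (f : Γ(𝒜.toQCAlg.spec, N)) :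
    tay hA haug hj0 hW he hN f = PowerSeries.rescale v (tay hA haug hj0 hW (he.smul_unit hv) hN f) := by
  have e1 : nbhd hA hW he =
      Spec.map (CommRingCat.ofHom (PowerSeries.rescale v)) ≫ nbhd hA hW (he.smul_unit hv) := by
    rw [nbhd, nbhd, ← Spec.map_comp_assoc]
    congr 2
    refine CommRingCat.hom_ext ?_
    change ser hA hW he = (PowerSeries.rescale v).comp (ser hA hW (he.smul_unit hv))
    refine ser_ext hA hW (he.smul_unit hv) (fun r => ?_) ?_
    · rw [RingHom.comp_apply, ser_str, ser_str]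
      ext i
      rw [PowerSeries.coeff_rescale, PowerSeries.coeff_C]
      rcases eq_or_ne i 0 with rfl | hi
      · rw [pow_zero, one_mul]
      · rw [if_neg hi, mul_zero]
    · rw [RingHom.comp_apply, ser_gen, PowerSeries.rescale_X]
      have : jL.app W (v • e) = (𝒜.str.app (op W)).hom v * (show (𝒜.presheaf.obj (op W) : Type u) from jL.app W e) :=
        jL.app_smul v e
      rw [this, map_mul, ser_str, ser_gen]
  unfold tay
  rw [ev_congr e1, ev_comp _ _ N (top_le_nbhd hA haug hj0 hW (he.smul_unit hv) hN)]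
  rfl

include haug hj0 in
lemma constantCoeff_tay {W : X.Opens} (hW : IsAffineOpen W) {e : Γ(L, W)} (he : IsGen L W e)
    {N : 𝒜.toQCAlg.spec.Opens} (hN : W ≤ j0 ⁻¹ᵁ N) (f : Γ(𝒜.toQCAlg.spec, N))
    (hf : j0.appLE N W hN f = 0) : PowerSeries.constantCoeff (tay hA haug hj0 hW he hN f) = 0 := by
  have htop : ⊤ ≤ hW.fromSpec ⁻¹ᵁ W := by rw [hW.fromSpec_preimage_self]
  have hc : ⊤ ≤ (hW.fromSpec ≫ j0) ⁻¹ᵁ N := htop.trans (hW.fromSpec.preimage_mono hN)
  have hcc := const_nbhd hA haug hj0 hW he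
  have h1 := ev_comp (nbhd hA hW he) (CommRingCat.ofHom (PowerSeries.constantCoeff (R := Γ(X, W)))) N
    (top_le_nbhd hA haug hj0 hW he hN) (hcc.symm ▸ hc)
  refine Eq.trans (congr($(h1).hom f)).symm ?_
  rw [ev_congr hcc, ev_factor _ _ N W htop hN, CommRingCat.comp_apply, hf, map_zero]

/-- The prime of the series with all coefficients in a prime. -/
def genPt {W : X.Opens} (P : PrimeSpectrum Γ(X, W)) : Spec (CommRingCat.of (PowerSeries Γ(X, W))) :=
  (⟨RingHom.ker (PowerSeries.map (Ideal.Quotient.mk P.asIdeal)), RingHom.ker_isPrime _⟩ :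
    PrimeSpectrum (PowerSeries Γ(X, W)))

omit [L.IsQuasicoherent] in
lemma mem_genPt {W : X.Opens} (P : PrimeSpectrum Γ(X, W)) (s : PowerSeries Γ(X, W)) :
    s ∈ (genPt P : PrimeSpectrum (PowerSeries Γ(X, W))).asIdeal ↔ ∀ n, PowerSeries.coeff n s ∈ P.asIdeal := by
  change PowerSeries.map (Ideal.Quotient.mk P.asIdeal) s = 0 ↔ _
  simp [PowerSeries.ext_iff, PowerSeries.coeff_map, Ideal.Quotient.eq_zero_iff_mem]

include haug hj0 in
lemma genPt_spec {W : X.Opens} (hW : IsAffineOpen W) {e : Γ(L, W)} (he : IsGen L W e)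
    (P : PrimeSpectrum Γ(X, W)) :
    π (nbhd hA hW he (genPt P)) = hW.fromSpec P ∧ nbhd hA hW he (genPt P) ∉ Set.range j0.base := by
  constructor
  · refine (congr($(nbhd_π hA hW he) (genPt P))).trans (congrArg hW.fromSpec ?_)
    refine PrimeSpectrum.ext (Ideal.ext fun r => ?_)
    change PowerSeries.C r ∈ (genPt P : PrimeSpectrum (PowerSeries Γ(X, W))).asIdeal ↔ _
    rw [mem_genPt]
    refine ⟨fun h => by simpa using h 0, fun h n => ?_⟩
    rw [PowerSeries.coeff_C]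
    split
    · exact h
    · exact zero_mem _
  · intro h
    have h1 := (range_inf hj0 hW _).1 h _ (haug W hW 0 _ (hA.2 W hW e))
    change ser hA hW he (jL.app W e) ∈ (genPt P : PrimeSpectrum (PowerSeries Γ(X, W))).asIdeal at h1
    rw [ser_gen, mem_genPt] at h1
    have h2 := h1 1
    rw [PowerSeries.coeff_one_X] at h2
    exact P.isPrime.ne_top ((Ideal.eq_top_iff_one _).2 h2)

omit [L.IsQuasicoherent] in
/-- Sections of powers from coefficients over the affine opens. -/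
theorem exists_of_coeff_affine (hL : PicF.IsInvertible L) (K : ℕ) (O : X.Opens)
    (c : ∀ (W : X.Opens) (_ : IsAffineOpen W) (_ : W ≤ O) (e : Γ(L, W)), IsGen L W e → Γ(X, W))
    (hres : ∀ (W W' : X.Opens) (hW : IsAffineOpen W) (hW' : IsAffineOpen W') (h : W ≤ O) (h' : W' ≤ W)
      (e : Γ(L, W)) (he : IsGen L W e),
      QCoh.rres h' (c W hW h e he) = c W' hW' (h'.trans h) (QCoh.res L h' e) (he.restrict h'))
    (hunit : ∀ (W : X.Opens) (hW : IsAffineOpen W) (h : W ≤ O) (e : Γ(L, W)) (he : IsGen L W e) (v : Γ(X, W))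
      (hv : IsUnit v), v ^ K * c W hW h (v • e) (he.smul_unit hv) = c W hW h e he) :
    ∃ ρ : Γ(CohB1.tensorPow L K, O),
      ∀ (W : X.Opens) (hW : IsAffineOpen W) (h : W ≤ O) (e : Γ(L, W)) (he : IsGen L W e),
        co K ρ h he = c W hW h e he := by
  have key : ∀ (A B : X.Opens) (hA : IsAffineOpen A) (hB : IsAffineOpen B) (hAO : A ≤ O) (hBO : B ≤ O)
      (a : Γ(L, A)) (b : Γ(L, B)) (ha : IsGen L A a) (hb : IsGen L B b) (Q : X.Opens) (hQA : Q ≤ A)
      (hQB : Q ≤ B),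
      QCoh.res _ hQA (c A hA hAO a ha • pw L a K) = QCoh.res _ hQB (c B hB hBO b hb • pw L b K) := by
    intro A B hA hB hAO hBO a b ha hb Q hQA hQB
    have hcov : ∀ x : Q, ∃ (D : X.Opens), IsAffineOpen D ∧ x.1 ∈ D ∧ D ≤ Q := fun x =>
      let ⟨D, hD, hxD, hle⟩ := exists_isAffineOpen_mem_and_subset (X := X) (x := x.1) (U := Q) x.2
      ⟨D, hD, hxD, hle⟩
    choose D hD hxD hDQ using hcov
    refine QCoh.eq_of_locally_eq _ (U := D) hDQ (fun x hx => Opens.mem_iSup.2 ⟨⟨x, hx⟩, hxD _⟩) _ _ fun x => ?_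
    rw [QCoh.res_res, QCoh.res_res, QCoh.res_smul, QCoh.res_smul, res_pw, res_pw,
      hres A (D x) hA (hD x) hAO ((hDQ x).trans hQA) a ha, hres B (D x) hB (hD x) hBO ((hDQ x).trans hQB) b hb]
    obtain ⟨v, hv, hvb⟩ := exists_unit_smul (ha.restrict ((hDQ x).trans hQA)) (hb.restrict ((hDQ x).trans hQB))
    have := hunit (D x) (hD x) ((hDQ x).trans (hQA.trans hAO)) _ (ha.restrict ((hDQ x).trans hQA)) v hv
    simp only [hvb, pw_smul, smul_smul]
    rw [← this, mul_comm]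
  have hcov : ∀ x : O, ∃ (W : X.Opens) (e : Γ(L, W)), IsAffineOpen W ∧ x.1 ∈ W ∧ W ≤ O ∧ IsGen L W e := by
    intro x
    obtain ⟨U, e, hxU, he⟩ := exists_isGen hL x.1
    obtain ⟨W, hW, hxW, hWU⟩ := exists_isAffineOpen_mem_and_subset (X := X) (x := x.1) (U := U ⊓ O) ⟨hxU, x.2⟩
    replace hWU : W ≤ U ⊓ O := hWU
    exact ⟨W, QCoh.res L (hWU.trans inf_le_left) e, hW, hxW, hWU.trans inf_le_right, he.restrict _⟩
  choose W e hW hxW hWO he using hcov
  have hc : O ≤ iSup W := fun x hx => Opens.mem_iSup.2 ⟨⟨x, hx⟩, hxW _⟩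
  obtain ⟨ρ, hρ⟩ := QCoh.exists_glue (CohB1.tensorPow L K) hWO hc
    (fun i => c (W i) (hW i) (hWO i) (e i) (he i) • pw L (e i) K)
    fun i i' => key _ _ _ _ _ _ _ _ _ _ _ inf_le_left inf_le_right
  refine ⟨ρ, fun W' hW' h e' he' => co_unique _ _ _ ?_⟩
  refine QCoh.eq_of_locally_eq _ (V := W') (U := fun i => W i ⊓ W') (fun i => inf_le_right)
    (fun x hx => Opens.mem_iSup.2 ⟨⟨x, h hx⟩, hxW _, hx⟩) _ _ fun i => ?_
  rw [QCoh.res_res, ← QCoh.res_res _ (hWO i) (inf_le_left : W i ⊓ W' ≤ W i), hρ i]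
  exact key _ _ _ _ _ _ _ _ _ _ _ _ _

include hA haug hj0 in
/-- A contraction of the zero section makes `L` relatively ample. -/
theorem isRelAmple_of_contraction {Y C : Scheme.{u}} (p : X ⟶ Y) [QuasiCompact p] (hL : PicF.IsInvertible L)
    {V0 : 𝒜.toQCAlg.spec.Opens} (hV0 : (V0 : Set 𝒜.toQCAlg.spec) = (Set.range j0.base)ᶜ)
    (ε : Y ⟶ C) (q : 𝒜.toQCAlg.spec ⟶ C) (hjq : j0 ≫ q = p ≫ ε) (hopen : IsOpenImmersion (V0.ι ≫ q))
    (hdisj : Set.range (V0.ι ≫ q).base ∩ Set.range ε.base = ∅) : RelAmple.IsRelAmple p L := by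
  have key : ∀ y : Y, ∃ U : Y.Opens, y ∈ U ∧ AmpleLib.AmpleOn L (p ⁻¹ᵁ U) := by
    intro y
    obtain ⟨WC, hWC, hyC, -⟩ := exists_isAffineOpen_mem_and_subset (X := C) (x := ε y) (U := ⊤) trivial
    obtain ⟨U, hU, hyU, hUε⟩ := exists_isAffineOpen_mem_and_subset (X := Y) (x := y) (U := ε ⁻¹ᵁ WC) hyC
    replace hUε : U ≤ ε ⁻¹ᵁ WC := hUε
    let O := p ⁻¹ᵁ U
    have hON : O ≤ j0 ⁻¹ᵁ (q ⁻¹ᵁ WC) := by
      rw [← Scheme.Hom.comp_preimage, hjq, Scheme.Hom.comp_preimage]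
      exact p.preimage_mono hUε
    refine ⟨U, hyU, p.isCompact_preimage hU.isCompact, fun x hx => ?_⟩
    obtain ⟨U₁, e₁, hxU₁, he₁⟩ := exists_isGen hL x
    obtain ⟨W, hW, hxW, hWle⟩ := exists_isAffineOpen_mem_and_subset (X := X) (x := x) (U := U₁ ⊓ O) ⟨hxU₁, hx⟩
    replace hWle : W ≤ U₁ ⊓ O := hWle
    have he := he₁.restrict (hWle.trans inf_le_left)
    have hWO : W ≤ O := hWle.trans inf_le_right
    obtain ⟨P, rfl⟩ := hW.range_fromSpec.ge hxW
    obtain ⟨hπz, hz0⟩ := genPt_spec hA haug hj0 hW he P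
    set z := nbhd hA hW he (genPt P)
    have hzV : z ∈ V0 := (Set.ext_iff.1 hV0 z).2 hz0
    let G : C.Opens := (V0.ι ≫ q) ''ᵁ (V0.ι ⁻¹ᵁ (π ⁻¹ᵁ W))
    have hwG : q z ∈ G := ⟨⟨z, hzV⟩, by
      change π z ∈ W
      rw [hπz]; exact hxW, rfl⟩
    have hwC : q z ∈ WC := top_le_nbhd hA haug hj0 hW he (hWO.trans hON) (x := genPt P) trivial
    obtain ⟨fC, hfG, hwf⟩ := hWC.exists_basicOpen_le (V := G) ⟨q z, hwG⟩ hwC
    obtain ⟨m, hm⟩ : IsNilpotent (ε.appLE WC U hUε fC) := by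
      rw [Scheme.isNilpotent_iff_basicOpen_eq_bot_of_isCompact hU.isCompact, eq_bot_iff]
      intro t ht
      rw [Scheme.Hom.appLE, CommRingCat.comp_apply, Scheme.basicOpen_res, ← Scheme.preimage_basicOpen] at ht
      obtain ⟨v, -, hv⟩ := hfG ht.2
      exact (hdisj.le ⟨⟨v, hv⟩, ⟨t, rfl⟩⟩).elim
    let f := q.app WC (fC ^ (m + 1))
    have hf0 : ∀ (Q : X.Opens) (h : Q ≤ O), j0.appLE (q ⁻¹ᵁ WC) Q (h.trans hON) f = 0 := by
      intro Q h
      have hle : Q ≤ (j0 ≫ q) ⁻¹ᵁ WC := h.trans hON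
      have hle' : Q ≤ (p ≫ ε) ⁻¹ᵁ WC := hjq ▸ hle
      have h1 : (j0 ≫ q).appLE WC Q hle = (p ≫ ε).appLE WC Q hle' := by congr 1
      have h2 := congr($(h1).hom (fC ^ (m + 1)))
      rw [Scheme.Hom.comp_appLE, ← Scheme.Hom.appLE_comp_appLE p ε WC U Q hUε h] at h2
      change j0.appLE _ _ _ f = _ at h2
      rw [h2, CommRingCat.comp_apply, map_pow, pow_succ, hm, zero_mul, map_zero]
    have hzf : z ∈ 𝒜.toQCAlg.spec.basicOpen f := by
      rw [← Scheme.preimage_basicOpen, Scheme.basicOpen_pow _ _ m.succ_pos]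
      exact hwf
    have h1 := (ev_basicOpen (nbhd hA hW he) _ (top_le_nbhd hA haug hj0 hW he (hWO.trans hON)) f (genPt P)).1 hzf
    change ¬ tay hA haug hj0 hW he (hWO.trans hON) f ∈
      (genPt P : PrimeSpectrum (PowerSeries Γ(X, W))).asIdeal at h1
    rw [mem_genPt, not_forall] at h1
    obtain ⟨n, hn⟩ := h1
    obtain ⟨k, rfl⟩ : ∃ k, n = k + 1 := by
      refine Nat.exists_eq_succ_of_ne_zero fun h0 => hn ?_
      subst h0
      rw [PowerSeries.coeff_zero_eq_constantCoeff_apply, constantCoeff_tay hA haug hj0 hW he _ f (hf0 W hWO)]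
      exact zero_mem _
    obtain ⟨ρ, hρ⟩ := exists_of_coeff_affine hL (k + 1) O
      (fun Q hQ h a ha => PowerSeries.coeff (k + 1) (tay hA haug hj0 hQ ha (h.trans hON) f))
      (fun Q Q' hQ hQ' h h' a ha => by
        rw [tay_res hA haug hj0 hQ hQ' h' ha (h.trans hON) f, PowerSeries.coeff_map])
      (fun Q hQ h a ha v hv => by
        rw [tay_smul hA haug hj0 hQ ha hv, PowerSeries.coeff_rescale])
    have hloc : ∀ (Q : X.Opens) (hQ : IsAffineOpen Q) (h : Q ≤ O) (a : Γ(L, Q)) (ha : IsGen L Q a)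
        (R : Spec Γ(X, Q)), hQ.fromSpec R ∈ AmpleLib.locus ρ ↔
          PowerSeries.coeff (k + 1) (tay hA haug hj0 hQ ha (h.trans hON) f) ∉
            (R : PrimeSpectrum Γ(X, Q)).asIdeal := by
      intro Q hQ h a ha R
      have hR : hQ.fromSpec R ∈ Q := hQ.range_fromSpec.le ⟨R, rfl⟩
      have h2 := SetLike.ext_iff.1 (AmpleLib.locus_inf_eq h ha ρ) (hQ.fromSpec R)
      rw [hρ Q hQ h a ha, Opens.mem_inf, and_iff_left hR] at h2
      rw [h2]
      exact SetLike.ext_iff.1 (hQ.fromSpec_preimage_basicOpen _) R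
    have hle : AmpleLib.locus ρ ≤ W := by
      intro x' hx'
      have hx'O : x' ∈ O := AmpleLib.locus_le ρ hx'
      obtain ⟨U₂, e₂, hxU₂, he₂⟩ := exists_isGen hL x'
      obtain ⟨Q, hQ, hxQ, hQle⟩ := exists_isAffineOpen_mem_and_subset (X := X) (x := x') (U := U₂ ⊓ O) ⟨hxU₂, hx'O⟩
      replace hQle : Q ≤ U₂ ⊓ O := hQle
      have ha := he₂.restrict (hQle.trans inf_le_left)
      have hQO : Q ≤ O := hQle.trans inf_le_right
      obtain ⟨R, rfl⟩ := hQ.range_fromSpec.ge hxQ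
      obtain ⟨hπ', hz0'⟩ := genPt_spec hA haug hj0 hQ ha R
      set z' := nbhd hA hQ ha (genPt R)
      have hz'f : z' ∈ 𝒜.toQCAlg.spec.basicOpen f := by
        refine (ev_basicOpen _ _ (top_le_nbhd hA haug hj0 hQ ha (hQO.trans hON)) f (genPt R)).2 ?_
        change ¬ tay hA haug hj0 hQ ha (hQO.trans hON) f ∈
          (genPt R : PrimeSpectrum (PowerSeries Γ(X, Q))).asIdeal
        rw [mem_genPt]
        exact fun h => (hloc Q hQ hQO _ ha R).1 hx' (h _)
      rw [← Scheme.preimage_basicOpen, Scheme.basicOpen_pow _ _ m.succ_pos] at hz'f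
      obtain ⟨v, hv, hvq⟩ := hfG hz'f
      have hinj : v = (⟨z', (Set.ext_iff.1 hV0 z').2 hz0'⟩ : V0.toScheme) :=
        (V0.ι ≫ q).isOpenEmbedding.injective hvq
      subst hinj
      change π z' ∈ W at hv
      rwa [hπ'] at hv
    refine ⟨k, ρ, (hloc W hW hWO _ he P).2 hn, ?_⟩
    rw [← inf_eq_left.2 hle, AmpleLib.locus_inf_eq hWO he ρ]
    exact hW.basicOpen _
  choose U hyU hU using key
  exact AmpleLib.isRelAmple_of_cover p U (fun y _ => Opens.mem_iSup.2 ⟨y, hyU y⟩) hL hU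

end Groth.Agent.Contr65

end
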