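import Groth.Agent.AffAlgLib.Basic
import Groth.Agent.QCoh.Basic

/-! Descending a morphism along a closed surjective morphism `f` with `f_* O = O`. -/

noncomputable section

universe u

open CategoryTheory CategoryTheory.Limits AlgebraicGeometry TopologicalSpace Opposite

namespace Groth.Agent.Contr65

variable {V C' C : Scheme.{u}} (f : V ⟶ C')

/-- Two morphisms agreeing after a surjective morphism injective on functions are equal. -/
theorem eq_of_comp_eq (hs : Function.Surjective f.base) (happ : ∀ O, Function.Injective (f.app O))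
    {a b : C' ⟶ C} (h : f ≫ a = f ≫ b) : a = b := by
  have hbase : ∀ c, a c = b c := fun c => by
    obtain ⟨v, rfl⟩ := hs c
    exact congr($(h) v)
  refine Scheme.hom_ext_of_forall _ _ fun c => ?_
  obtain ⟨W, hW, hcW, -⟩ := exists_isAffineOpen_mem_and_subset (X := C) (x := a c) (U := ⊤) trivial
  have hO : a ⁻¹ᵁ W ≤ b ⁻¹ᵁ W := fun x hx => by
    change b x ∈ W
    rw [← hbase]
    exact hx
  refine ⟨a ⁻¹ᵁ W, hcW, ?_⟩
  rw [← AffAlgLib.toSpecΓ_map_appLE_fromSpec (a ⁻¹ᵁ W) a hW le_rfl,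
    ← AffAlgLib.toSpecΓ_map_appLE_fromSpec (a ⁻¹ᵁ W) b hW hO]
  congr 3
  refine CommRingCat.hom_ext (RingHom.ext fun r => happ _ ?_)
  have h1 : a.appLE W (a ⁻¹ᵁ W) le_rfl ≫ f.app (a ⁻¹ᵁ W) = b.appLE W (a ⁻¹ᵁ W) hO ≫ f.app (a ⁻¹ᵁ W) := by
    rw [Scheme.Hom.app_eq_appLE f, Scheme.Hom.appLE_comp_appLE, Scheme.Hom.appLE_comp_appLE]
    congr 1
  exact congr($(h1).hom r)

/-- The same over an open of the target. -/
theorem eq_of_restrict_comp_eq (hs : Function.Surjective f.base) (happ : ∀ O, Function.Injective (f.app O))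
    (O : C'.Opens) {a b : O.toScheme ⟶ C} (h : (f ∣_ O) ≫ a = (f ∣_ O) ≫ b) : a = b := by
  refine eq_of_comp_eq (f ∣_ O) ?_ ?_ h
  · intro c
    obtain ⟨v, hv⟩ := hs c.1
    refine ⟨⟨v, show f v ∈ O from hv.symm ▸ c.2⟩, Subtype.ext ?_⟩
    exact ((congr($(morphismRestrict_ι f O) ⟨v, show f v ∈ O from hv.symm ▸ c.2⟩))).trans hv
  · intro Q
    rw [morphismRestrict_app]
    exact (((ConcreteCategory.isIso_iff_bijective (V.presheaf.map _)).1 (Functor.map_isIso _ _)).1).comp (happ _)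

/-- Descent of a morphism which is constant on the fibres. -/
theorem existsUnique_desc (hs : Function.Surjective f.base) (hcl : IsClosedMap f.base)
    (happ : ∀ O, Function.Bijective (f.app O)) (q : V ⟶ C) (hconst : ∀ a b, f a = f b → q a = q b) :
    ∃! u : C' ⟶ C, f ≫ u = q := by
  let O : C.affineOpens → C'.Opens := fun W =>
    ⟨(f.base '' ((q ⁻¹ᵁ W.1 : V.Opens) : Set V)ᶜ)ᶜ, (hcl _ (q ⁻¹ᵁ W.1).2.isClosed_compl).isOpen_compl⟩
  have hO : ∀ W, f ⁻¹ᵁ O W = q ⁻¹ᵁ W.1 := by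
    intro W
    ext v
    constructor
    · intro hv
      by_contra hv'
      exact hv ⟨v, hv', rfl⟩
    · rintro hv ⟨w, hw, hwv⟩
      apply hw
      change q w ∈ W.1
      rw [hconst w v hwv]
      exact hv
  choose r hr using fun (W : C.affineOpens) (a : Γ(C, W.1)) => (happ (O W)).2 (q.appLE W.1 (f ⁻¹ᵁ O W) (hO W).le a)
  let rh : ∀ W : C.affineOpens, Γ(C, W.1) ⟶ Γ(C', O W) := fun W => CommRingCat.ofHom
    { toFun := r W
      map_one' := (happ (O W)).1 (by rw [hr, map_one, map_one])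
      map_mul' := fun a b => (happ (O W)).1 (by rw [hr, map_mul, map_mul, hr, hr])
      map_zero' := (happ (O W)).1 (by rw [hr, map_zero, map_zero])
      map_add' := fun a b => (happ (O W)).1 (by rw [hr, map_add, map_add, hr, hr]) }
  have hrh : ∀ W, rh W ≫ f.app (O W) = q.appLE W.1 (f ⁻¹ᵁ O W) (hO W).le := fun W =>
    CommRingCat.hom_ext (RingHom.ext fun a => hr W a)
  let loc : ∀ W : C.affineOpens, (O W).toScheme ⟶ C := fun W =>
    (O W).toSpecΓ ≫ Spec.map (rh W) ≫ W.2.fromSpec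
  have hloc : ∀ W, (f ∣_ O W) ≫ loc W = (f ⁻¹ᵁ O W).ι ≫ q := by
    intro W
    have hnat : (f ∣_ O W) ≫ (O W).toSpecΓ = (f ⁻¹ᵁ O W).toSpecΓ ≫ Spec.map (f.app (O W)) := by
      exact (Scheme.Opens.toSpecΓ_naturality f (O W)).symm
    simp only [loc]
    rw [reassoc_of% hnat, ← Spec.map_comp_assoc, hrh,
      AffAlgLib.toSpecΓ_map_appLE_fromSpec (f ⁻¹ᵁ O W) q W.2 (hO W).le]
  have hcov : iSup O = ⊤ := by
    rw [eq_top_iff]
    intro c _
    obtain ⟨v, rfl⟩ := hs c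
    obtain ⟨W, hW, hvW, -⟩ := exists_isAffineOpen_mem_and_subset (X := C) (x := q v) (U := ⊤) trivial
    exact Opens.mem_iSup.2 ⟨⟨W, hW⟩, (hO ⟨W, hW⟩).ge hvW⟩
  let 𝒰 : C'.OpenCover := C'.openCoverOfIsOpenCover O hcov
  have agree : ∀ i j : C.affineOpens, pullback.fst (O i).ι (O j).ι ≫ loc i = pullback.snd (O i).ι (O j).ι ≫ loc j := by
    intro i j
    let m : pullback (O i).ι (O j).ι ⟶ C' := pullback.fst (O i).ι (O j).ι ≫ (O i).ι
    have hm2 : m = pullback.snd (O i).ι (O j).ι ≫ (O j).ι := pullback.condition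
    have : IsOpenImmersion m := inferInstanceAs (IsOpenImmersion (pullback.fst (O i).ι (O j).ι ≫ (O i).ι))
    let Q := m.opensRange
    have hQi : Q ≤ O i := by
      rintro _ ⟨z, rfl⟩
      exact (pullback.fst (O i).ι (O j).ι z).2
    have hQj : Q ≤ O j := by
      rintro _ ⟨z, rfl⟩
      rw [hm2]
      exact (pullback.snd (O i).ι (O j).ι z).2
    have h1 : m.isoOpensRange.inv ≫ pullback.fst (O i).ι (O j).ι = C'.homOfLE hQi := by
      rw [← cancel_mono (O i).ι, Category.assoc, Scheme.homOfLE_ι]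
      exact Scheme.Hom.isoOpensRange_inv_comp m
    have h2 : m.isoOpensRange.inv ≫ pullback.snd (O i).ι (O j).ι = C'.homOfLE hQj := by
      rw [← cancel_mono (O j).ι, Category.assoc, Scheme.homOfLE_ι, ← hm2]
      exact Scheme.Hom.isoOpensRange_inv_comp m
    rw [← cancel_epi m.isoOpensRange.inv, reassoc_of% h1, reassoc_of% h2]
    refine eq_of_restrict_comp_eq f hs (fun O => (happ O).1) Q ?_
    have hr : ∀ (k : C.affineOpens) (hk : Q ≤ O k),
        (f ∣_ Q) ≫ C'.homOfLE hk ≫ loc k = (f ⁻¹ᵁ Q).ι ≫ q := by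
      intro k hk
      have h3 : (f ∣_ Q) ≫ C'.homOfLE hk = V.homOfLE (f.preimage_mono hk) ≫ (f ∣_ O k) := by
        rw [← cancel_mono (O k).ι, Category.assoc, Category.assoc, Scheme.homOfLE_ι, morphismRestrict_ι,
          morphismRestrict_ι, Scheme.homOfLE_ι_assoc]
      rw [reassoc_of% h3, hloc, Scheme.homOfLE_ι_assoc]
    exact (hr i hQi).trans (hr j hQj).symm
  refine ⟨𝒰.glueMorphisms loc agree, ?_, fun u hu => ?_⟩
  · have hcov' : iSup (fun W => f ⁻¹ᵁ O W) = ⊤ := by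
      rw [← Scheme.Hom.preimage_iSup, hcov]; rfl
    refine (V.openCoverOfIsOpenCover (fun W => f ⁻¹ᵁ O W) hcov').hom_ext _ _ fun W => ?_
    change (f ⁻¹ᵁ O W).ι ≫ f ≫ _ = (f ⁻¹ᵁ O W).ι ≫ q
    rw [← morphismRestrict_ι_assoc]
    exact (congrArg ((f ∣_ O W) ≫ ·) (𝒰.ι_glueMorphisms loc agree W)).trans (hloc W)
  · refine eq_of_comp_eq f hs (fun O => (happ O).1) ?_
    rw [hu]
    have hcov' : iSup (fun W => f ⁻¹ᵁ O W) = ⊤ := by
      rw [← Scheme.Hom.preimage_iSup, hcov]; rfl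
    refine ((V.openCoverOfIsOpenCover (fun W => f ⁻¹ᵁ O W) hcov').hom_ext _ _ fun W => ?_).symm
    change (f ⁻¹ᵁ O W).ι ≫ f ≫ _ = (f ⁻¹ᵁ O W).ι ≫ q
    rw [← morphismRestrict_ι_assoc]
    exact (congrArg ((f ∣_ O W) ≫ ·) (𝒰.ι_glueMorphisms loc agree W)).trans (hloc W)

end Groth.Agent.Contr65

end
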