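import Groth.Agent.Contr65.Proper
import Groth.Agent.Contr65.Desc
import Groth.Agent.RelSpecLib.SpecMapGamma
import Mathlib.AlgebraicGeometry.Morphisms.UniversallyInjective
import Mathlib.AlgebraicGeometry.Morphisms.Integral

/-! Factoring a contraction through the canonical one. -/

noncomputable section

universe u

open CategoryTheory CategoryTheory.Limits AlgebraicGeometry TopologicalSpace Opposite
open RelProj
open Groth.Agent.Props.GenLocus Groth.Agent.Props.GenProd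

namespace Groth.Agent.Contr65

/-- Bijectivity on functions passes to basic opens of an affine open. -/
lemma bijective_app_basicOpen {V C : Scheme.{u}} (q : V ⟶ C) {A : C.Opens} (hA : IsAffineOpen A)
    (hc : IsCompact (q ⁻¹ᵁ A : Set V)) (hqs : IsQuasiSeparated (q ⁻¹ᵁ A : Set V)) (β : Γ(C, A))
    (hbij : Function.Bijective (q.app A)) : Function.Bijective (q.app (C.basicOpen β)) := by
  set D := C.basicOpen β
  let iA : Algebra Γ(C, A) Γ(C, D) := (C.presheaf.map (homOfLE (C.basicOpen_le β)).op).hom.toAlgebra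
  have lA : IsLocalization.Away β Γ(C, D) := hA.isLocalization_basicOpen β
  let iV : Algebra Γ(V, q ⁻¹ᵁ A) Γ(V, q ⁻¹ᵁ D) :=
    (V.presheaf.map (homOfLE (q.preimage_mono (C.basicOpen_le β))).op).hom.toAlgebra
  have lV : IsLocalization.Away (q.app A β) Γ(V, q ⁻¹ᵁ D) := by
    have hpre : q ⁻¹ᵁ D = V.basicOpen (q.app A β) := Scheme.preimage_basicOpen q β
    let : Algebra Γ(V, q ⁻¹ᵁ A) Γ(V, V.basicOpen (q.app A β)) :=
      (V.presheaf.map (homOfLE (V.basicOpen_le _)).op).hom.toAlgebra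
    dsimp +instances only [iV]
    rw! (castMode := .all) [hpre]
    exact isLocalization_basicOpen_of_qcqs hc hqs (q.app A β)
  have hn : ∀ x, q.app D (algebraMap Γ(C, A) Γ(C, D) x) = algebraMap Γ(V, q ⁻¹ᵁ A) Γ(V, q ⁻¹ᵁ D) (q.app A x) :=
    fun x => congr($(q.naturality (homOfLE (C.basicOpen_le β)).op).hom x)
  constructor
  · refine (injective_iff_map_eq_zero (q.app D).hom).2 fun z hz => ?_
    obtain ⟨n, x, hx⟩ := IsLocalization.Away.surj β z
    have h1 : algebraMap Γ(V, q ⁻¹ᵁ A) Γ(V, q ⁻¹ᵁ D) (q.app A x) = algebraMap Γ(V, q ⁻¹ᵁ A) Γ(V, q ⁻¹ᵁ D) 0 := by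
      rw [map_zero, ← hn, ← hx, map_mul, hz, zero_mul]
    obtain ⟨⟨_, m, rfl⟩, hm⟩ := (IsLocalization.eq_iff_exists (Submonoid.powers (q.app A β)) _).1 h1
    have hk : β ^ m * x = 0 := hbij.1 (by rw [map_mul, map_pow, map_zero]; exact hm.trans (mul_zero _))
    have hu : IsUnit (algebraMap Γ(C, A) Γ(C, D) β) := IsLocalization.Away.algebraMap_isUnit β
    refine ((hu.pow (m + n)).mul_left_eq_zero).1 ?_
    have := congrArg (algebraMap Γ(C, A) Γ(C, D)) hk
    rw [map_mul, map_pow, ← hx, map_zero] at this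
    rw [← this, pow_add]
    ring
  · intro z
    obtain ⟨n, f, hf⟩ := IsLocalization.Away.surj (q.app A β) z
    obtain ⟨x, hx⟩ := hbij.2 f
    refine ⟨IsLocalization.mk' Γ(C, D) x (⟨β ^ n, n, rfl⟩ : Submonoid.powers β), ?_⟩
    have hu : IsUnit (algebraMap Γ(V, q ⁻¹ᵁ A) Γ(V, q ⁻¹ᵁ D) (q.app A β)) :=
      IsLocalization.Away.algebraMap_isUnit _
    refine (hu.pow n).mul_left_injective ?_
    have h2 := congrArg (q.app D) (IsLocalization.mk'_spec Γ(C, D) x
      (⟨β ^ n, n, rfl⟩ : Submonoid.powers β))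
    rw [map_mul, hn, hn, hx, map_pow, map_pow] at h2
    beta_reduce
    rw [h2, ← hf]

variable {X Y : Scheme.{u}} {L : X.Modules} {𝒜 : QCGrAlg X}
  [L.IsQuasicoherent] {jL : L ⟶ 𝒜.toModule} (hA : IsGrSymAlg L 𝒜 jL)
  {aug : 𝒜.toQCAlg ⟶ RelSpec.QCAlg.unit X} (haug : RelCone.IsAugmentation 𝒜 aug)
  {j0 : X ⟶ 𝒜.toQCAlg.spec} {hj0 : RelCone.IsVertex 𝒜 aug j0} {p : X ⟶ Y} [IsProper p] (hθ : IsIso p.c)
  {ε₀ : Y ⟶ (contrAlg hj0 p).spec} {q₀ : 𝒜.toQCAlg.spec ⟶ (contrAlg hj0 p).spec} (hεq : IsContr hj0 p ε₀ q₀)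
  {V0 : 𝒜.toQCAlg.spec.Opens} (hV0 : (V0 : Set 𝒜.toQCAlg.spec) = (Set.range j0.base)ᶜ)
  (hamp : RelAmple.IsRelAmple p L)

set_option allowUnsafeReducibility true in
attribute [local reducible] RelSpec.QCAlg.unit

local notation "π" => 𝒜.toQCAlg.π

include hθ in
omit [L.IsQuasicoherent] [IsProper p] in
lemma app_bijective (U : Y.Opens) : Function.Bijective (p.app U) :=
  (ConcreteCategory.isIso_iff_bijective _).1
    (show IsIso (p.c.app (op U)) from ((asIso p.c).app (op U)).isIso_hom)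

include hθ in
omit [L.IsQuasicoherent] in
lemma surjective_p : Function.Surjective p.base := by
  intro y
  by_contra hy
  let O : Y.Opens := ⟨(Set.range p.base)ᶜ, p.isClosedMap.isClosed_range.isOpen_compl⟩
  have h0 : p ⁻¹ᵁ O = ⊥ := by
    ext x
    exact ⟨fun hx => (hx ⟨x, rfl⟩).elim, fun hx => hx.elim⟩
  have : Subsingleton Γ(X, p ⁻¹ᵁ O) := by rw [h0]; infer_instance
  have h1 : (1 : Γ(Y, O)) = 0 := (app_bijective hθ O).1 (Subsingleton.elim _ _)
  have h2 : O = ⊥ := by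
    rw [← Y.basicOpen_of_isUnit (f := (1 : Γ(Y, O))) isUnit_one, h1, Scheme.basicOpen_zero]
  have h3 : y ∈ (⊥ : Y.Opens) := h2 ▸ (show y ∈ O from hy)
  exact h3

include hθ in
omit [L.IsQuasicoherent] in
lemma snd_bijective (U : Y.Opens) : Function.Bijective
    (fun b : fib p (π ≫ p) j0 (j0_comp hj0 p) U => b.1.2) := by
  constructor
  · intro b c h
    refine Subtype.ext (Prod.ext ((app_bijective hθ U).1 ?_) h)
    rw [(mem_fib _ _ _ _ _).1 b.2, (mem_fib _ _ _ _ _).1 c.2]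
    exact congrArg _ h
  · intro s
    obtain ⟨a, ha⟩ := (app_bijective hθ U).2 (jres p (π ≫ p) j0 (j0_comp hj0 p) U s)
    exact ⟨⟨(a, s), ha⟩, rfl⟩

include hθ hεq in
omit [L.IsQuasicoherent] in
lemma IsContr.app_affine_bijective {U : Y.Opens} (hU : IsAffineOpen U) :
    Function.Bijective (q₀.app ((contrAlg hj0 p).π ⁻¹ᵁ U)) := by
  have hγ : Function.Bijective ((contrAlg hj0 p).gammaAff U hU) := by
    have := S8255.result (contrAlg hj0 p)
    rw [← (contrAlg hj0 p).gammaMap_app U hU]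
    exact (ConcreteCategory.isIso_iff_bijective _).1 ((asIso (contrAlg hj0 p).gammaMap).app (op U)).isIso_hom
  have happ : ∀ x, q₀.app ((contrAlg hj0 p).π ⁻¹ᵁ U) x =
      QCoh.rres (hεq.preimage_π U).le
        ((fun b : fib p (π ≫ p) j0 (j0_comp hj0 p) U => b.1.2) ((contrAlg hj0 p).gammaAff U hU x)) := by
    intro x
    beta_reduce
    rw [← hεq.q_app U hU (hεq.preimage_π U).ge _ x rfl, ← CommRingCat.comp_apply, QCoh.rres,
      Scheme.Hom.appLE_map, ← Scheme.Hom.app_eq_appLE]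
  have hr : Function.Bijective (QCoh.rres (hεq.preimage_π U).le :
      Γ(𝒜.toQCAlg.spec, (π ≫ p) ⁻¹ᵁ U) ⟶ _) := by
    refine ⟨fun a b h => ?_, fun b => ⟨QCoh.rres (hεq.preimage_π U).ge b, by rw [QCoh.rres_rres, QCoh.rres_self]⟩⟩
    have := congrArg (QCoh.rres (hεq.preimage_π U).ge) h
    rwa [QCoh.rres_rres, QCoh.rres_rres, QCoh.rres_self, QCoh.rres_self] at this
  rw [show (⇑(q₀.app ((contrAlg hj0 p).π ⁻¹ᵁ U))) = _ from funext happ]
  exact hr.comp ((snd_bijective (hj0 := hj0) hθ U).comp hγ)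

include hθ hεq in
omit [L.IsQuasicoherent] in
theorem IsContr.app_bijective' (O : (contrAlg hj0 p).spec.Opens) : Function.Bijective (q₀.app O) := by
  have hcov : ∀ z : O, ∃ D : (contrAlg hj0 p).spec.Opens, z.1 ∈ D ∧ D ≤ O ∧
      ∀ D' : (contrAlg hj0 p).spec.Opens, D' ≤ D → ∀ z' ∈ D',
        ∃ E : (contrAlg hj0 p).spec.Opens, z' ∈ E ∧ E ≤ D' ∧ Function.Bijective (q₀.app E) := by
    intro z
    obtain ⟨U, hU, hzU, -⟩ := exists_isAffineOpen_mem_and_subset (X := Y) (x := (contrAlg hj0 p).π z.1)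
      (U := ⊤) trivial
    refine ⟨(contrAlg hj0 p).π ⁻¹ᵁ U ⊓ O, ⟨hzU, z.2⟩, inf_le_right, fun D' hD' z' hz' => ?_⟩
    obtain ⟨β, hβ, hzβ⟩ := (hU.preimage (contrAlg hj0 p).π).exists_basicOpen_le (V := D') ⟨z', hz'⟩ (hD' hz').1
    refine ⟨_, hzβ, hβ, bijective_app_basicOpen q₀ (hU.preimage _) ?_ ?_ β (hεq.app_affine_bijective hθ hU)⟩
    · rw [hεq.preimage_π]; exact Scheme.Hom.isCompact_preimage _ hU.isCompact
    · rw [hεq.preimage_π]; exact Scheme.Hom.isQuasiSeparated_preimage _ hU.isQuasiSeparated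
  have hgen : ∀ z ∈ O, ∃ E : (contrAlg hj0 p).spec.Opens, z ∈ E ∧ E ≤ O ∧ Function.Bijective (q₀.app E) := by
    intro z hz
    obtain ⟨D, hzD, hDO, hD⟩ := hcov ⟨z, hz⟩
    obtain ⟨E, hzE, hED, hE⟩ := hD D le_rfl z hzD
    exact ⟨E, hzE, hED.trans hDO, hE⟩
  have hinj : ∀ O' : (contrAlg hj0 p).spec.Opens, O' ≤ O → Function.Injective (q₀.app O') := by
    intro O' hO'
    refine (injective_iff_map_eq_zero (q₀.app O').hom).2 fun x hx => ?_
    have : ∀ z : O', ∃ E : (contrAlg hj0 p).spec.Opens, z.1 ∈ E ∧ E ≤ O' ∧ Function.Bijective (q₀.app E) := by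
      intro z
      obtain ⟨D, hzD, -, hD⟩ := hcov ⟨z.1, hO' z.2⟩
      obtain ⟨E, hzE, hED, hE⟩ := hD (D ⊓ O') inf_le_left z.1 ⟨hzD, z.2⟩
      exact ⟨E, hzE, hED.trans inf_le_right, hE⟩
    choose E hzE hEO hE using this
    refine TopCat.Sheaf.eq_of_locally_eq' (contrAlg hj0 p).spec.sheaf E O' (fun z => homOfLE (hEO z))
      (fun z hz => Opens.mem_iSup.2 ⟨⟨z, hz⟩, hzE _⟩) _ _ fun z => (hE z).1 ?_
    change q₀.app (E z) (QCoh.rres (hEO z) x) = q₀.app (E z) (QCoh.rres (hEO z) 0)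
    rw [app_res' q₀ (hEO z), app_res' q₀ (hEO z), hx, map_zero (q₀.app O').hom]
  refine ⟨hinj O le_rfl, fun y => ?_⟩
  choose E hzE hEO hE using fun z : O => hgen z.1 z.2
  choose x hx using fun z => (hE z).2 (QCoh.rres (q₀.preimage_mono (hEO z)) y)
  obtain ⟨a, ha, -⟩ := TopCat.Sheaf.existsUnique_gluing' (contrAlg hj0 p).spec.sheaf E O
    (fun z => homOfLE (hEO z)) (fun z hz => Opens.mem_iSup.2 ⟨⟨z, hz⟩, hzE _⟩) x (fun i k => by
      refine hinj (E i ⊓ E k) (inf_le_left.trans (hEO i)) ?_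
      change q₀.app (E i ⊓ E k) (QCoh.rres inf_le_left (x i)) = q₀.app (E i ⊓ E k) (QCoh.rres inf_le_right (x k))
      rw [app_res' q₀ inf_le_left, app_res' q₀ inf_le_right, hx, hx, QCoh.rres_rres, QCoh.rres_rres])
  refine ⟨a, TopCat.Sheaf.eq_of_locally_eq' 𝒜.toQCAlg.spec.sheaf (fun z => q₀ ⁻¹ᵁ E z) (q₀ ⁻¹ᵁ O)
    (fun z => homOfLE (q₀.preimage_mono (hEO z)))
    (fun v hv => Opens.mem_iSup.2 ⟨⟨q₀ v, hv⟩, hzE _⟩) _ _ fun z => ?_⟩
  change QCoh.rres (q₀.preimage_mono (hEO z)) (q₀.app O a) = QCoh.rres (q₀.preimage_mono (hEO z)) y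
  rw [← app_res' q₀ (hEO z), ← hx z]
  exact congrArg _ (ha z)

include hA haug hθ hεq hV0 hamp in
theorem IsContr.surjective : Function.Surjective q₀.base := by
  intro w
  by_cases hw : w ∈ Set.range ε₀.base
  · obtain ⟨y, rfl⟩ := hw
    obtain ⟨x, rfl⟩ := surjective_p hθ y
    exact ⟨j0 x, congr($(hεq.comm) x)⟩
  · obtain ⟨v, rfl⟩ := (hεq.range_eq hA haug hV0 hamp).ge hw
    exact ⟨V0.ι v, rfl⟩

include hA haug hεq hV0 hamp in
/-- The canonical contraction separates everything off the zero section. -/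
theorem IsContr.eq_or (a b : 𝒜.toQCAlg.spec) (h : q₀ a = q₀ b) :
    a = b ∨ ∃ x x', a = j0 x ∧ b = j0 x' ∧ p x = p x' := by
  obtain ⟨ho, -, hdisj⟩ := hεq.openImmersion hA haug hV0 hamp
  have hcase : ∀ v : 𝒜.toQCAlg.spec, v ∈ V0 ∨ ∃ x, j0 x = v := fun v => by
    by_cases hv : v ∈ V0
    · exact Or.inl hv
    · exact Or.inr (Set.notMem_compl_iff.1 fun h => hv ((Set.ext_iff.1 hV0 v).2 h))
  have hj : ∀ x, q₀ (j0 x) = ε₀ (p x) := fun x => congr($(hεq.comm) x)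
  rcases hcase a with ha | ⟨x, rfl⟩ <;> rcases hcase b with hb | ⟨x', rfl⟩
  · exact Or.inl (congrArg Subtype.val (ho.base_open.injective (a₁ := ⟨a, ha⟩) (a₂ := ⟨b, hb⟩) h))
  · exact (hdisj.le ⟨⟨⟨a, ha⟩, rfl⟩, ⟨p x', ((hj x').symm.trans h.symm)⟩⟩).elim
  · exact (hdisj.le ⟨⟨⟨b, hb⟩, rfl⟩, ⟨p x, ((hj x).symm.trans h)⟩⟩).elim
  · refine Or.inr ⟨x, x', rfl, rfl, ?_⟩
    rw [hj, hj] at h
    have h2 : ∀ y, (contrAlg hj0 p).π (ε₀ y) = y := fun y => congr($(hεq.ε_π) y)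
    rw [← h2 (p x), h, h2]

variable {C : Scheme.{u}} (g : C ⟶ Y) (ε : Y ⟶ C) (q : 𝒜.toQCAlg.spec ⟶ C) (hjq : j0 ≫ q = p ≫ ε)

include hA haug hθ hεq hV0 hamp hjq in
theorem IsContr.existsUnique_factor (hqg : q ≫ g = π ≫ p) :
    ∃! u : (contrAlg hj0 p).spec ⟶ C, u ≫ g = (contrAlg hj0 p).π ∧ q₀ ≫ u = q := by
  have := hεq.isProper hA haug hV0 hamp
  obtain ⟨u, hu, huniq⟩ := existsUnique_desc q₀ (hεq.surjective hA haug hθ hV0 hamp) q₀.isClosedMap
    (hεq.app_bijective' hθ) q (fun a b h => by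
      rcases hεq.eq_or hA haug hV0 hamp a b h with rfl | ⟨x, x', rfl, rfl, hxx⟩
      · rfl
      · have hq : ∀ x, q (j0 x) = ε (p x) := fun x => congr($(hjq) x)
        rw [hq, hq, hxx])
  refine ⟨u, ⟨?_, hu⟩, fun u' hu' => huniq u' hu'.2⟩
  refine eq_of_comp_eq q₀ (hεq.surjective hA haug hθ hV0 hamp) (fun O => (hεq.app_bijective' hθ O).1) ?_
  rw [reassoc_of% hu, hqg, hεq.q_π]

variable (u : (contrAlg hj0 p).spec ⟶ C) (hu : q₀ ≫ u = q) [IsProper q]
  (hqo : IsOpenImmersion (V0.ι ≫ q)) (hqr : Set.range (V0.ι ≫ q).base = (Set.range ε.base)ᶜ)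

include hθ hεq hjq hu in
omit [L.IsQuasicoherent] [IsProper q] in
theorem IsContr.ε_factor : ε₀ ≫ u = ε := by
  refine eq_of_comp_eq p (surjective_p hθ) (fun O => (app_bijective hθ O).1) ?_
  rw [← reassoc_of% hεq.comm, hu, hjq]

include hA haug hθ hεq hV0 hamp hjq hu hqo hqr in
/-- Properties of the factorisation. -/
theorem IsContr.factor_props (g : C ⟶ Y) (hug : u ≫ g = (contrAlg hj0 p).π) :
    UniversallyClosed u ∧ Function.Surjective u.base ∧ Function.Injective u.base ∧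
      (∀ c, u c ∈ Set.range ε.base ↔ c ∈ Set.range ε₀.base) ∧ UniversallyInjective u := by
  have hs := hεq.surjective hA haug hθ hV0 hamp
  have hεu := hεq.ε_factor hθ ε q hjq u hu
  have huc : UniversallyClosed u := by
    have : UniversallyClosed (q₀ ≫ u) := by rw [hu]; infer_instance
    have : Surjective q₀ := ⟨hs⟩
    exact UniversallyClosed.of_comp_surjective q₀ u
  have hsurj : Function.Surjective u.base := by
    intro c
    by_cases hc : c ∈ Set.range ε.base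
    · obtain ⟨y, rfl⟩ := hc
      exact ⟨ε₀ y, congr($(hεu) y)⟩
    · obtain ⟨v, rfl⟩ := hqr.ge hc
      exact ⟨q₀ (V0.ι v), congr($(hu) (V0.ι v))⟩
  have hiff : ∀ c, u c ∈ Set.range ε.base ↔ c ∈ Set.range ε₀.base := by
    refine fun c => ⟨fun hc => ?_, ?_⟩
    · by_contra hc'
      obtain ⟨v, rfl⟩ := (hεq.range_eq hA haug hV0 hamp).ge hc'
      exact hqr.le ⟨v, (congr($(hu) (V0.ι v))).symm⟩ hc
    · rintro ⟨y, rfl⟩
      exact ⟨y, (congr($(hεu) y)).symm⟩
  refine ⟨huc, hsurj, ?_, hiff, ?_⟩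
  · intro a b h
    by_cases ha : a ∈ Set.range ε₀.base
    · have hb : b ∈ Set.range ε₀.base := (hiff b).1 (h ▸ (hiff a).2 ha)
      obtain ⟨y, rfl⟩ := ha
      obtain ⟨y', rfl⟩ := hb
      have e : ∀ y, g (u (ε₀ y)) = y := fun y => by
        have h1 : (ε₀ ≫ u ≫ g) y = y := by rw [hug, hεq.ε_π]; rfl
        exact h1
      rw [← e y, h, e]
    · have hb : b ∉ Set.range ε₀.base := fun hb => ha ((hiff a).1 (h ▸ (hiff b).2 hb))
      obtain ⟨v, rfl⟩ := (hεq.range_eq hA haug hV0 hamp).ge ha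
      obtain ⟨v', rfl⟩ := (hεq.range_eq hA haug hV0 hamp).ge hb
      have h1 : (V0.ι ≫ q) v = (V0.ι ≫ q) v' := by rw [← hu]; exact h
      rw [hqo.base_open.injective h1]
  · obtain ⟨ho, -, -⟩ := hεq.openImmersion hA haug hV0 hamp
    refine ((tfae_universallyInjective u).out 0 1).2 ?_
    intro K hK a b hab
    change a ≫ u = b ≫ u at hab
    let pt : Spec (CommRingCat.of K) := IsLocalRing.closedPoint K
    have hpt : ∀ z : Spec (CommRingCat.of K), z = pt := fun z => Subsingleton.elim _ _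
    by_cases ha : a pt ∈ Set.range ε₀.base
    · have hb : b pt ∈ Set.range ε₀.base := (hiff _).1 (by
        have := (hiff _).2 ha
        rwa [show u (a pt) = u (b pt) from congr($(hab) pt)] at this)
      have : IsClosedImmersion (ε₀ ≫ (contrAlg hj0 p).π) := by rw [hεq.ε_π]; infer_instance
      have : IsClosedImmersion ε₀ := IsClosedImmersion.of_comp ε₀ (contrAlg hj0 p).π
      have key : ∀ c : Spec (CommRingCat.of K) ⟶ (contrAlg hj0 p).spec, c pt ∈ Set.range ε₀.base →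
          c = (c ≫ u ≫ g) ≫ ε₀ := by
        rintro c ⟨y, hy⟩
        obtain ⟨z, hz, -⟩ := Scheme.Pullback.exists_preimage_pullback (f := c) (g := ε₀) pt y hy.symm
        have : Surjective (pullback.fst c ε₀) := ⟨fun w => ⟨z, hz.trans (hpt w).symm⟩⟩
        have : IsIso (pullback.fst c ε₀) := isIso_of_isClosedImmersion_of_surjective _
        rw [← cancel_epi (pullback.fst c ε₀), hug, Category.assoc, pullback.condition_assoc,
          reassoc_of% hεq.ε_π, pullback.condition]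
      rw [key a ha, key b hb, reassoc_of% hab]
    · have hb : b pt ∉ Set.range ε₀.base := fun hb => ha ((hiff _).1 (by
        have := (hiff _).2 hb
        rwa [show u (b pt) = u (a pt) from (congr($(hab) pt)).symm] at this))
      have hr := hεq.range_eq hA haug hV0 hamp
      have key : ∀ c : Spec (CommRingCat.of K) ⟶ (contrAlg hj0 p).spec, c pt ∉ Set.range ε₀.base →
          ∃ c', c' ≫ V0.ι ≫ q₀ = c := fun c hc => ⟨IsOpenImmersion.lift (V0.ι ≫ q₀) c (by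
            rintro _ ⟨z, rfl⟩
            rw [hpt z]
            exact hr.ge hc), IsOpenImmersion.lift_fac _ _ _⟩
      obtain ⟨a', rfl⟩ := key a ha
      obtain ⟨b', rfl⟩ := key b hb
      simp only [Category.assoc, hu] at hab
      rw [(cancel_mono (V0.ι ≫ q)).1 hab]

end Groth.Agent.Contr65

end
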