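import Groth.Agent.Contr65.Tau
import Groth.Agent.Contr65.Alg
import Groth.Agent.RelSpecLib.QMap
import Groth.Agent.AffAlgLib.Basic

/-! A relatively ample line bundle has a contraction of its zero section. -/

noncomputable section

universe u

open CategoryTheory CategoryTheory.Limits AlgebraicGeometry TopologicalSpace Opposite
open RelProj
open Groth.Agent.Props.GenLocus Groth.Agent.Props.GenProd

namespace Groth.Agent.Contr65

/-- A restriction over a basic open of an affine is an isomorphism if the map on functions becomes one after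
localization. -/
lemma isIso_morphismRestrict_basicOpen {V C : Scheme.{u}} (q : V ⟶ C) {A : C.Opens} (hA : IsAffineOpen A)
    (hc : IsCompact (q ⁻¹ᵁ A : Set V)) (hqs : IsQuasiSeparated (q ⁻¹ᵁ A : Set V)) (β : Γ(C, A))
    (haff : IsAffineOpen (q ⁻¹ᵁ C.basicOpen β))
    (hinj : ∀ x, q.app A x = 0 → ∃ k : ℕ, β ^ k * x = 0)
    (hsurj : ∀ f, ∃ x, q.app A x = q.app A β * f) :
    IsIso (q ∣_ C.basicOpen β) := by
  set D := C.basicOpen β
  have hD : IsAffineOpen D := hA.basicOpen β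
  let iA : Algebra Γ(C, A) Γ(C, D) := (C.presheaf.map (homOfLE (C.basicOpen_le β)).op).hom.toAlgebra
  have lA : IsLocalization.Away β Γ(C, D) := hA.isLocalization_basicOpen β
  let iV : Algebra Γ(V, q ⁻¹ᵁ A) Γ(V, q ⁻¹ᵁ D) :=
    (V.presheaf.map (homOfLE (q.preimage_mono (C.basicOpen_le β))).op).hom.toAlgebra
  have lV : IsLocalization.Away (q.app A β) Γ(V, q ⁻¹ᵁ D) := by
    have hpre : q ⁻¹ᵁ D = V.basicOpen (q.app A β) := Scheme.preimage_basicOpen q β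
    let : Algebra Γ(V, q ⁻¹ᵁ A) Γ(V, V.basicOpen (q.app A β)) :=
      (V.presheaf.map (homOfLE (V.basicOpen_le _)).op).hom.toAlgebra
    dsimp +instances only [iV]
    rw! (castMode := .all) [hpre]
    exact isLocalization_basicOpen_of_qcqs hc hqs (q.app A β)
  have hn : ∀ x, q.app D (algebraMap Γ(C, A) Γ(C, D) x) = algebraMap Γ(V, q ⁻¹ᵁ A) Γ(V, q ⁻¹ᵁ D) (q.app A x) :=
    fun x => congr($(q.naturality (homOfLE (C.basicOpen_le β)).op).hom x)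
  have hb : Function.Bijective (q.app D) := by
    constructor
    · refine (injective_iff_map_eq_zero (q.app D).hom).2 fun z hz => ?_
      obtain ⟨n, x, hx⟩ := IsLocalization.Away.surj β z
      have h1 : algebraMap Γ(V, q ⁻¹ᵁ A) Γ(V, q ⁻¹ᵁ D) (q.app A x) = algebraMap Γ(V, q ⁻¹ᵁ A) Γ(V, q ⁻¹ᵁ D) 0 := by
        rw [map_zero, ← hn, ← hx, map_mul, hz, zero_mul]
      obtain ⟨⟨_, m, rfl⟩, hm⟩ := (IsLocalization.eq_iff_exists (Submonoid.powers (q.app A β)) _).1 h1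
      obtain ⟨k, hk⟩ := hinj (β ^ m * x) (by
        rw [map_mul, map_pow]
        exact hm.trans (mul_zero _))
      have hu : IsUnit (algebraMap Γ(C, A) Γ(C, D) β) := IsLocalization.Away.algebraMap_isUnit β
      refine ((hu.pow (k + (m + n))).mul_left_eq_zero).1 ?_
      have := congrArg (algebraMap Γ(C, A) Γ(C, D)) hk
      rw [map_mul, map_mul, map_pow, map_pow, ← hx, map_zero] at this
      rw [← this, pow_add, pow_add]
      ring
    · intro z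
      obtain ⟨n, f, hf⟩ := IsLocalization.Away.surj (q.app A β) z
      obtain ⟨x, hx⟩ := hsurj f
      refine ⟨IsLocalization.mk' Γ(C, D) x (⟨β ^ (n + 1), n + 1, rfl⟩ : Submonoid.powers β), ?_⟩
      have hu : IsUnit (algebraMap Γ(V, q ⁻¹ᵁ A) Γ(V, q ⁻¹ᵁ D) (q.app A β)) :=
        IsLocalization.Away.algebraMap_isUnit _
      refine (hu.pow (n + 1)).mul_left_injective ?_
      have h2 := congrArg (q.app D) (IsLocalization.mk'_spec Γ(C, D) x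
        (⟨β ^ (n + 1), n + 1, rfl⟩ : Submonoid.powers β))
      rw [map_mul, hn, hn, hx, map_pow, map_pow, map_mul] at h2
      beta_reduce
      rw [h2, ← hf, pow_succ]
      ring
  haveI : IsAffine D.toScheme := hD
  haveI hsrc : IsAffine (q ⁻¹ᵁ D).toScheme := haff
  change MorphismProperty.isomorphisms Scheme (q ∣_ D)
  rw [HasAffineProperty.iff_of_isAffine (P := MorphismProperty.isomorphisms Scheme)]
  refine ⟨hsrc, ?_⟩
  rw [morphismRestrict_appTop]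
  have key : ∀ U : C.Opens, U = D → IsIso (q.app U) := by
    rintro U rfl
    exact (ConcreteCategory.isIso_iff_bijective _).2 hb
  have := key (D.ι ''ᵁ ⊤) ((Scheme.Hom.image_top_eq_opensRange _).trans D.opensRange_ι)
  refine IsIso.comp_isIso' this ?_
  exact Functor.map_isIso _ _

variable {X Y : Scheme.{u}} {L : X.Modules} {𝒜 : QCGrAlg X}
  [L.IsQuasicoherent] {jL : L ⟶ 𝒜.toModule} (hA : IsGrSymAlg L 𝒜 jL)
  {aug : 𝒜.toQCAlg ⟶ RelSpec.QCAlg.unit X} (haug : RelCone.IsAugmentation 𝒜 aug)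
  {j0 : X ⟶ 𝒜.toQCAlg.spec} (hj0 : RelCone.IsVertex 𝒜 aug j0) (p : X ⟶ Y) [IsSeparated p] [QuasiCompact p]

set_option allowUnsafeReducibility true in
attribute [local reducible] RelSpec.QCAlg.unit

local notation "π" => 𝒜.toQCAlg.π

include hj0 in
omit [IsSeparated p] [QuasiCompact p] [L.IsQuasicoherent] in
lemma j0_comp : j0 ≫ π ≫ p = p := by
  rw [← Category.assoc, hj0.comp_π, Category.id_comp]

/-- The algebra of the contraction. -/
def contrAlg : RelSpec.QCAlg Y := fibAlg p (π ≫ p) j0 (j0_comp hj0 p)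

/-- The data of the contraction, read on the affine opens of the base. -/
structure IsContr (ε : Y ⟶ (contrAlg hj0 p).spec) (q : 𝒜.toQCAlg.spec ⟶ (contrAlg hj0 p).spec) : Prop where
  ε_π : ε ≫ (contrAlg hj0 p).π = 𝟙 Y
  q_π : q ≫ (contrAlg hj0 p).π = π ≫ p
  comm : j0 ≫ q = p ≫ ε
  ε_app : ∀ (U : Y.Opens) (hU : IsAffineOpen U) (h : U ≤ ε ⁻¹ᵁ ((contrAlg hj0 p).π ⁻¹ᵁ U))
    (b : fib p (π ≫ p) j0 (j0_comp hj0 p) U) (β : Γ((contrAlg hj0 p).spec, (contrAlg hj0 p).π ⁻¹ᵁ U)),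
      (contrAlg hj0 p).gammaAff U hU β = b → ε.appLE _ U h β = b.1.1
  q_app : ∀ (U : Y.Opens) (hU : IsAffineOpen U) (h : (π ≫ p) ⁻¹ᵁ U ≤ q ⁻¹ᵁ ((contrAlg hj0 p).π ⁻¹ᵁ U))
    (b : fib p (π ≫ p) j0 (j0_comp hj0 p) U) (β : Γ((contrAlg hj0 p).spec, (contrAlg hj0 p).π ⁻¹ᵁ U)),
      (contrAlg hj0 p).gammaAff U hU β = b → q.appLE _ ((π ≫ p) ⁻¹ᵁ U) h β = b.1.2

omit [L.IsQuasicoherent] in
theorem exists_isContr : ∃ ε q, IsContr hj0 p ε q := by
  obtain ⟨ε, ⟨hε, hεc⟩, -⟩ := RelSpecLib.existsUnique_section (A := contrAlg hj0 p)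
    (fibFst p (π ≫ p) j0 (j0_comp hj0 p))
  obtain ⟨q, hq, hqa⟩ := AffAlgLib.exists_eq_algHom (contrAlg hj0 p).π (π ≫ p)
    ((contrAlg hj0 p).gammaMap ≫ (fibSnd p (π ≫ p) j0 (j0_comp hj0 p)).hom) (by
      rw [← Category.assoc, RelSpec.QCAlg.π_c_gammaMap]
      exact (fibSnd p (π ≫ p) j0 (j0_comp hj0 p)).comm)
  have hεU : ∀ (U : Y.Opens) (hU : IsAffineOpen U) (h : U ≤ ε ⁻¹ᵁ ((contrAlg hj0 p).π ⁻¹ᵁ U)),
      ε.appLE ((contrAlg hj0 p).π ⁻¹ᵁ U) U h = (contrAlg hj0 p).gammaAff U hU ≫ (fibFst p (π ≫ p) j0 (j0_comp hj0 p)).hom.app (op U) := by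
    intro U hU h
    refine Spec.map_injective ?_
    rw [← cancel_mono (hU.preimage (contrAlg hj0 p).π).fromSpec, IsAffineOpen.SpecMap_appLE_fromSpec ε (hU.preimage (contrAlg hj0 p).π) hU,
      Spec.map_comp, Category.assoc, ← RelSpecLib.ι_eq]
    exact hεc U hU
  have hqU : ∀ (U : Y.Opens) (hU : IsAffineOpen U) (h : (π ≫ p) ⁻¹ᵁ U ≤ q ⁻¹ᵁ ((contrAlg hj0 p).π ⁻¹ᵁ U)),
      q.appLE ((contrAlg hj0 p).π ⁻¹ᵁ U) ((π ≫ p) ⁻¹ᵁ U) h =
        (contrAlg hj0 p).gammaAff U hU ≫ (fibSnd p (π ≫ p) j0 (j0_comp hj0 p)).hom.app (op U) := by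
    intro U hU h
    have h1 := NatTrans.congr_app hqa (op U)
    rw [AffAlgLib.algHom_app, NatTrans.comp_app, (contrAlg hj0 p).gammaMap_app U hU] at h1
    exact h1
  refine ⟨ε, q, hε, hq, ?_, fun U hU h b β hβ => ?_, fun U hU h b β hβ => ?_⟩
  · refine Scheme.hom_ext_of_forall _ _ fun x => ?_
    obtain ⟨U, hU, hxU, -⟩ := exists_isAffineOpen_mem_and_subset (X := Y) (x := p x) (U := ⊤) trivial
    refine ⟨p ⁻¹ᵁ U, hxU, ?_⟩
    have e1 : U ≤ ε ⁻¹ᵁ ((contrAlg hj0 p).π ⁻¹ᵁ U) := by rw [← Scheme.Hom.comp_preimage, hε]; exact le_rfl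
    have e2 : (π ≫ p) ⁻¹ᵁ U ≤ q ⁻¹ᵁ ((contrAlg hj0 p).π ⁻¹ᵁ U) := by rw [← Scheme.Hom.comp_preimage, hq]
    have e3 := le_preimage_fib p (π ≫ p) j0 (j0_comp hj0 p) U
    have l1 : p ⁻¹ᵁ U ≤ (j0 ≫ q) ⁻¹ᵁ ((contrAlg hj0 p).π ⁻¹ᵁ U) := e3.trans (j0.preimage_mono e2)
    have l2 : p ⁻¹ᵁ U ≤ (p ≫ ε) ⁻¹ᵁ ((contrAlg hj0 p).π ⁻¹ᵁ U) := p.preimage_mono e1
    rw [← AffAlgLib.toSpecΓ_map_appLE_fromSpec (p ⁻¹ᵁ U) (j0 ≫ q) (hU.preimage (contrAlg hj0 p).π) l1,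
      ← AffAlgLib.toSpecΓ_map_appLE_fromSpec (p ⁻¹ᵁ U) (p ≫ ε) (hU.preimage (contrAlg hj0 p).π) l2]
    congr 3
    rw [← Scheme.Hom.appLE_comp_appLE j0 q _ _ _ e2 e3, ← Scheme.Hom.appLE_comp_appLE p ε _ _ _ e1 le_rfl,
      hqU U hU, hεU U hU, ← Scheme.Hom.app_eq_appLE p]
    exact CommRingCat.hom_ext (RingHom.ext fun z =>
      ((contrAlg hj0 p).gammaAff U hU z : fib p (π ≫ p) j0 (j0_comp hj0 p) U).2.symm)
  · exact (congr($(hεU U hU h).hom β)).trans (congrArg (fun b : fib p (π ≫ p) j0 (j0_comp hj0 p) U => b.1.1) hβ)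
  · exact (congr($(hqU U hU h).hom β)).trans (congrArg (fun b : fib p (π ≫ p) j0 (j0_comp hj0 p) U => b.1.2) hβ)

variable {p hj0}
variable {ε : Y ⟶ (contrAlg hj0 p).spec} {q : 𝒜.toQCAlg.spec ⟶ (contrAlg hj0 p).spec} (hεq : IsContr hj0 p ε q)

include hεq in
omit [L.IsQuasicoherent] in
lemma IsContr.preimage_π (U : Y.Opens) : q ⁻¹ᵁ ((contrAlg hj0 p).π ⁻¹ᵁ U) = (π ≫ p) ⁻¹ᵁ U := by
  rw [← Scheme.Hom.comp_preimage, hεq.q_π]

include hεq in
omit [L.IsQuasicoherent] in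
lemma IsContr.preimage_ε (U : Y.Opens) : ε ⁻¹ᵁ ((contrAlg hj0 p).π ⁻¹ᵁ U) = U := by
  rw [← Scheme.Hom.comp_preimage, hεq.ε_π]
  rfl

omit [L.IsQuasicoherent] in
lemma exists_elt (U : Y.Opens) (hU : IsAffineOpen U) (b : fib p (π ≫ p) j0 (j0_comp hj0 p) U) :
    ∃ β : Γ((contrAlg hj0 p).spec, (contrAlg hj0 p).π ⁻¹ᵁ U), (contrAlg hj0 p).gammaAff U hU β = b := by
  have := S8255.result (contrAlg hj0 p)
  have h : IsIso ((contrAlg hj0 p).gammaAff U hU) := by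
    rw [← (contrAlg hj0 p).gammaMap_app U hU]
    exact ((asIso (contrAlg hj0 p).gammaMap).app (op U)).isIso_hom
  exact ((ConcreteCategory.isIso_iff_bijective _).1 h).2 b

include hεq in
omit [L.IsQuasicoherent] in
lemma IsContr.preimage_basicOpen {U : Y.Opens} (hU : IsAffineOpen U)
    (b : fib p (π ≫ p) j0 (j0_comp hj0 p) U) (β : Γ((contrAlg hj0 p).spec, (contrAlg hj0 p).π ⁻¹ᵁ U))
    (hβ : (contrAlg hj0 p).gammaAff U hU β = b) :
    q ⁻¹ᵁ (contrAlg hj0 p).spec.basicOpen β = 𝒜.toQCAlg.spec.basicOpen b.1.2 ∧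
      ε ⁻¹ᵁ (contrAlg hj0 p).spec.basicOpen β = Y.basicOpen b.1.1 := by
  constructor
  · rw [← hεq.q_app U hU (hεq.preimage_π U).ge b β hβ, Scheme.Hom.appLE, CommRingCat.comp_apply,
      Scheme.basicOpen_res, ← Scheme.preimage_basicOpen, inf_eq_right.2]
    rw [← hεq.preimage_π U]
    exact q.preimage_mono ((contrAlg hj0 p).spec.basicOpen_le β)
  · rw [← hεq.ε_app U hU (hεq.preimage_ε U).ge b β hβ, Scheme.Hom.appLE, CommRingCat.comp_apply,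
      Scheme.basicOpen_res, ← Scheme.preimage_basicOpen, inf_eq_right.2]
    conv_rhs => rw [← hεq.preimage_ε U]
    exact ε.preimage_mono ((contrAlg hj0 p).spec.basicOpen_le β)

include hεq in
omit [L.IsQuasicoherent] in
lemma IsContr.isIso_restrict {U : Y.Opens} (hU : IsAffineOpen U) (s : Γ(𝒜.toQCAlg.spec, (π ≫ p) ⁻¹ᵁ U))
    (hs : jres p (π ≫ p) j0 (j0_comp hj0 p) U s = 0) (haff : IsAffineOpen (𝒜.toQCAlg.spec.basicOpen s))
    (b : fib p (π ≫ p) j0 (j0_comp hj0 p) U) (hb : b.1 = (0, s))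
    (β : Γ((contrAlg hj0 p).spec, (contrAlg hj0 p).π ⁻¹ᵁ U)) (hβ : (contrAlg hj0 p).gammaAff U hU β = b) :
    IsIso (q ∣_ (contrAlg hj0 p).spec.basicOpen β) := by
  have hle := (hεq.preimage_π U).le
  have happ : ∀ (x : Γ((contrAlg hj0 p).spec, (contrAlg hj0 p).π ⁻¹ᵁ U)) (c : fib p (π ≫ p) j0 (j0_comp hj0 p) U),
      (contrAlg hj0 p).gammaAff U hU x = c →
      q.app ((contrAlg hj0 p).π ⁻¹ᵁ U) x = QCoh.rres hle c.1.2 := by
    intro x c hc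
    rw [← hεq.q_app U hU (hεq.preimage_π U).ge c x hc, ← CommRingCat.comp_apply, QCoh.rres,
      Scheme.Hom.appLE_map, ← Scheme.Hom.app_eq_appLE]
  refine isIso_morphismRestrict_basicOpen q (hU.preimage (contrAlg hj0 p).π) ?_ ?_ β ?_ ?_ ?_
  · rw [hεq.preimage_π]; exact Scheme.Hom.isCompact_preimage _ hU.isCompact
  · rw [hεq.preimage_π]; exact Scheme.Hom.isQuasiSeparated_preimage _ hU.isQuasiSeparated
  · rw [(hεq.preimage_basicOpen hU b β hβ).1, hb]; exact haff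
  · intro x hx
    let c : fib p (π ≫ p) j0 (j0_comp hj0 p) U := (contrAlg hj0 p).gammaAff U hU x
    have hc2 : c.1.2 = 0 := by
      rw [happ x c rfl] at hx
      have := congrArg (QCoh.rres (hεq.preimage_π U).ge) hx
      rwa [QCoh.rres_rres, QCoh.rres_self, map_zero] at this
    refine ⟨1, ?_⟩
    have hinj : Function.Injective ((contrAlg hj0 p).gammaAff U hU) := by
      have := S8255.result (contrAlg hj0 p)
      rw [← (contrAlg hj0 p).gammaMap_app U hU]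
      exact ((ConcreteCategory.isIso_iff_bijective _).1 ((asIso (contrAlg hj0 p).gammaMap).app (op U)).isIso_hom).1
    refine hinj ?_
    rw [map_mul, map_pow, hβ, map_zero, pow_one]
    refine Subtype.ext ?_
    change b.1 * c.1 = 0
    rw [hb]
    exact Prod.ext (zero_mul _) ((congrArg (s * ·) hc2).trans (mul_zero _))
  · intro f
    let f' := QCoh.rres (hεq.preimage_π U).ge f
    have hmem : ((0, s * f') : Γ(Y, U) × Γ(𝒜.toQCAlg.spec, (π ≫ p) ⁻¹ᵁ U)) ∈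
        fib p (π ≫ p) j0 (j0_comp hj0 p) U := by
      rw [mem_fib, map_zero, map_mul, hs, zero_mul]
    obtain ⟨x, hx⟩ := exists_elt U hU ⟨_, hmem⟩
    refine ⟨x, ?_⟩
    rw [happ x _ hx, happ β b hβ, hb]
    change QCoh.rres hle (s * f') = QCoh.rres hle s * f
    rw [map_mul]
    congr 1
    rw [QCoh.rres_rres, QCoh.rres_self]

variable {V0 : 𝒜.toQCAlg.spec.Opens} (hV0 : (V0 : Set 𝒜.toQCAlg.spec) = (Set.range j0.base)ᶜ)
  (hamp : RelAmple.IsRelAmple p L)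

include hA haug hV0 hamp in
omit [IsSeparated p] in
/-- Near every point off the zero section: a function vanishing on it with affine non-vanishing locus. -/
lemma exists_fun (U : Y.Opens) (hU : IsAffineOpen U) (x : X) (hx : x ∈ p ⁻¹ᵁ U) :
    ∃ (k : ℕ) (σ : Γ(CohB1.tensorPow L (k + 1), p ⁻¹ᵁ U)) (s : Γ(𝒜.toQCAlg.spec, (π ≫ p) ⁻¹ᵁ U)),
      x ∈ AmpleLib.locus σ ∧ IsAffineOpen (AmpleLib.locus σ) ∧
      jres p (π ≫ p) j0 (j0_comp hj0 p) U s = 0 ∧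
      𝒜.toQCAlg.spec.basicOpen s = π ⁻¹ᵁ (AmpleLib.locus σ) ⊓ V0 ∧
      IsAffineOpen (𝒜.toQCAlg.spec.basicOpen s) ∧
      ∀ (W : X.Opens) (hWO : W ≤ p ⁻¹ᵁ U) (e : Γ(L, W)) (he : IsGen L W e),
        QCoh.rres ((π).preimage_mono hWO) s = (π).app W (co (k + 1) σ hWO he) * tau jL e ^ (k + 1) := by
  obtain ⟨-, hL, hAO⟩ := AmpleLib.isRelAmple_iff.1 hamp
  obtain ⟨k, σ, hxσ, haff⟩ := (hAO ⟨U, hU⟩).2 x hx
  obtain ⟨s, hs0, hsD, hsW⟩ := exists_secFun hA haug hj0 hL hV0 k.succ_pos σ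
  refine ⟨k, σ, s, hxσ, haff, hs0, hsD, ?_, hsW⟩
  have hle : 𝒜.toQCAlg.spec.basicOpen s ≤ π ⁻¹ᵁ AmpleLib.locus σ := hsD.le.trans inf_le_left
  have := (haff.preimage π).basicOpen (QCoh.rres ((π).preimage_mono (AmpleLib.locus_le σ)) s)
  change IsAffineOpen (𝒜.toQCAlg.spec.basicOpen ((𝒜.toQCAlg.spec.presheaf.map _).hom s)) at this
  rwa [Scheme.basicOpen_res, inf_eq_right.2 hle] at this

include hA haug hεq hV0 hamp in
/-- The main properties of the contraction. -/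
theorem IsContr.openImmersion :
    IsOpenImmersion (V0.ι ≫ q) ∧ QuasiCompact (V0.ι ≫ q) ∧ Set.range (V0.ι ≫ q).base ∩ Set.range ε.base = ∅ := by
  let ι := Σ U : Y.affineOpens, {t : fib p (π ≫ p) j0 (j0_comp hj0 p) U.1 //
    t.1.1 = 0 ∧ IsAffineOpen (𝒜.toQCAlg.spec.basicOpen t.1.2)}
  choose β hβ using fun i : ι => exists_elt (hj0 := hj0) (p := p) i.1.1 i.1.2 i.2.1
  let D : ι → (contrAlg hj0 p).spec.Opens := fun i => (contrAlg hj0 p).spec.basicOpen (β i)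
  have hD : ∀ i, q ⁻¹ᵁ D i = 𝒜.toQCAlg.spec.basicOpen i.2.1.1.2 :=
    fun i => (hεq.preimage_basicOpen i.1.2 i.2.1 _ (hβ i)).1
  let G : (contrAlg hj0 p).spec.Opens := ⨆ i, D i
  have hjs : ∀ i : ι, jres p (π ≫ p) j0 (j0_comp hj0 p) i.1.1 i.2.1.1.2 = 0 := by
    intro i
    rw [← ((mem_fib _ _ _ _ _).1 i.2.1.2), i.2.2.1, map_zero]
  have hGV : q ⁻¹ᵁ G = V0 := by
    refine le_antisymm ?_ fun z hz => ?_
    · intro z hz
      obtain ⟨i, hi⟩ := Opens.mem_iSup.1 (show q z ∈ G from hz)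
      refine (Set.ext_iff.1 hV0 z).2 ?_
      rintro ⟨x, rfl⟩
      have hi' : j0 x ∈ 𝒜.toQCAlg.spec.basicOpen i.2.1.1.2 := (hD i).le hi
      have h1 : x ∈ p ⁻¹ᵁ i.1.1 := by
        have h := 𝒜.toQCAlg.spec.basicOpen_le _ hi'
        have h2 : (j0 ≫ π ≫ p) x = p x := by rw [j0_comp hj0 p]
        change p x ∈ i.1.1
        rw [← h2]; exact h
      have h3 : x ∈ X.basicOpen (jres p (π ≫ p) j0 (j0_comp hj0 p) i.1.1 i.2.1.1.2) := by
        rw [jres, Scheme.Hom.appLE, CommRingCat.comp_apply, Scheme.basicOpen_res, ← Scheme.preimage_basicOpen]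
        exact ⟨h1, hi'⟩
      rw [hjs, Scheme.basicOpen_zero] at h3
      exact h3
    · obtain ⟨U, hU, hzU, -⟩ := exists_isAffineOpen_mem_and_subset (X := Y) (x := p (π z)) (U := ⊤) trivial
      obtain ⟨k, σ, s, hxσ, -, hs0, hsD, haff, -⟩ := exists_fun (hj0 := hj0) hA haug hV0 hamp U hU (π z) hzU
      let i : ι := ⟨⟨U, hU⟩, ⟨⟨(0, s), by rw [mem_fib, map_zero, hs0]⟩, rfl, haff⟩⟩
      refine Opens.mem_iSup.2 ⟨i, ?_⟩
      exact (hD i).ge (hsD.ge ⟨hxσ, hz⟩)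
  have hiso : IsIso (q ∣_ G) := by
    change MorphismProperty.isomorphisms Scheme (q ∣_ G)
    refine (IsZariskiLocalAtTarget.iff_of_iSup_eq_top (P := MorphismProperty.isomorphisms Scheme)
      (fun i => G.ι ⁻¹ᵁ D i) ?_).2 fun i => ?_
    · rw [eq_top_iff]
      intro z _
      obtain ⟨i, hi⟩ := Opens.mem_iSup.1 z.2
      exact Opens.mem_iSup.2 ⟨i, hi⟩
    · rw [MorphismProperty.arrow_mk_iso_iff (MorphismProperty.isomorphisms Scheme)
        (morphismRestrictRestrict q G (G.ι ⁻¹ᵁ D i))]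
      have e : G.ι ''ᵁ (G.ι ⁻¹ᵁ D i) = D i := by
        rw [Scheme.Hom.image_preimage_eq_opensRange_inf, Scheme.Opens.opensRange_ι,
          inf_eq_right.2 (le_iSup D i)]
      rw [e]
      exact hεq.isIso_restrict i.1.2 _ (hjs i) i.2.2.2 i.2.1 (Prod.ext i.2.2.1 rfl) _ (hβ i)
  have heq : V0.ι ≫ q = (𝒜.toQCAlg.spec.isoOfEq hGV.symm).hom ≫ (q ∣_ G) ≫ G.ι := by
    rw [morphismRestrict_ι, Scheme.isoOfEq_hom_ι_assoc]
  refine ⟨?_, ?_, ?_⟩
  · rw [heq]; infer_instance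
  · rw [HasAffineProperty.iff_of_iSup_eq_top (P := @QuasiCompact)
      (fun U : Y.affineOpens => (⟨(contrAlg hj0 p).π ⁻¹ᵁ U.1, U.2.preimage (contrAlg hj0 p).π⟩ : (contrAlg hj0 p).spec.affineOpens)) (by
        rw [← Scheme.Hom.preimage_iSup, iSup_affineOpens_eq_top]; rfl)]
    intro U
    change CompactSpace ((V0.ι ≫ q) ⁻¹ᵁ ((contrAlg hj0 p).π ⁻¹ᵁ U.1))
    refine isCompact_iff_compactSpace.1 ?_
    rw [Scheme.Hom.comp_preimage, hεq.preimage_π]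
    refine (V0.ι.isOpenEmbedding.isInducing.isCompact_iff).2 ?_
    have e : V0.ι '' ((V0.ι ⁻¹ᵁ ((π ≫ p) ⁻¹ᵁ U.1) : V0.toScheme.Opens) : Set V0.toScheme) =
        ((V0 ⊓ (π ≫ p) ⁻¹ᵁ U.1 : 𝒜.toQCAlg.spec.Opens) : Set 𝒜.toQCAlg.spec) := by
      ext z
      exact ⟨by rintro ⟨w, hw, rfl⟩; exact ⟨w.2, hw⟩, fun hz => ⟨⟨z, hz.1⟩, hz.2, rfl⟩⟩
    rw [e]
    choose k σ s hxσ _ _ hsD haff _ using
      fun x : (p ⁻¹ᵁ U.1 : X.Opens) => exists_fun (hj0 := hj0) hA haug hV0 hamp U.1 U.2 x.1 x.2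
    obtain ⟨t, ht⟩ := (p.isCompact_preimage U.2.isCompact).elim_finite_subcover
      (fun x => (AmpleLib.locus (σ x) : Set X)) (fun x => (AmpleLib.locus (σ x)).2)
      (fun x hx => Set.mem_iUnion.2 ⟨⟨x, hx⟩, hxσ _⟩)
    have e2 : ((V0 ⊓ (π ≫ p) ⁻¹ᵁ U.1 : 𝒜.toQCAlg.spec.Opens) : Set 𝒜.toQCAlg.spec) =
        ⋃ x ∈ t, (𝒜.toQCAlg.spec.basicOpen (s x) : Set 𝒜.toQCAlg.spec) := by
      ext z
      constructor
      · rintro ⟨hz0, hzU⟩
        obtain ⟨x, hx, hzx⟩ := Set.mem_iUnion₂.1 (ht (show π z ∈ (p ⁻¹ᵁ U.1 : X.Opens) from hzU))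
        exact Set.mem_iUnion₂.2 ⟨x, hx, (hsD x).ge ⟨hzx, hz0⟩⟩
      · intro hz
        obtain ⟨x, -, hzx⟩ := Set.mem_iUnion₂.1 hz
        exact ⟨((hsD x).le hzx).2, 𝒜.toQCAlg.spec.basicOpen_le _ hzx⟩
    rw [e2]
    exact t.finite_toSet.isCompact_biUnion fun x _ => (haff x).isCompact
  · rw [Set.eq_empty_iff_forall_notMem]
    rintro _ ⟨⟨v, rfl⟩, y, hy⟩
    obtain ⟨i, hi⟩ := Opens.mem_iSup.1 (show q (V0.ι v) ∈ G from hGV.ge v.2)
    have h1 : y ∈ ε ⁻¹ᵁ D i := by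
      change ε y ∈ D i
      rw [show ε y = q (V0.ι v) from hy]
      exact hi
    rw [(hεq.preimage_basicOpen i.1.2 i.2.1 _ (hβ i)).2, i.2.2.1, Scheme.basicOpen_zero] at h1
    exact h1

end Groth.Agent.Contr65

end
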