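import Groth.Agent.Contr65.Factor
import Groth.Agent.NormalSec.Basic
import Groth.Prelude.Def_Pi1

/-! For a normal target the factorisation is an isomorphism. -/

noncomputable section

universe u

open CategoryTheory CategoryTheory.Limits AlgebraicGeometry TopologicalSpace Opposite
open RelProj
open Groth.Agent.Props.GenLocus Groth.Agent.Props.GenProd

namespace Groth.Agent.Contr65

variable {X Y : Scheme.{u}} {L : X.Modules} {𝒜 : QCGrAlg X}
  [L.IsQuasicoherent] {jL : L ⟶ 𝒜.toModule} (hA : IsGrSymAlg L 𝒜 jL)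

local notation "π" => 𝒜.toQCAlg.π

include hA in
lemma isDomain_chart [IsIntegral X] {W : X.Opens} (hW : IsAffineOpen W) {e : Γ(L, W)} (he : IsGen L W e)
    (hne : (W : Set X).Nonempty) : IsDomain (𝒜.presheaf.obj (op W) : Type u) := by
  have : Nonempty W.toScheme := hne.to_subtype
  exact (RingEquiv.ofBijective _ (polyHom_bijective hA hW he)).toMulEquiv.isDomain_iff.1 inferInstance

include hA in
lemma res_injective [IsIntegral X] {W W' : X.Opens} (hW : IsAffineOpen W) (hW' : IsAffineOpen W') (h : W' ≤ W)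
    (hne : (W' : Set X).Nonempty) {e : Γ(L, W)} (he : IsGen L W e) :
    Function.Injective (𝒜.presheaf.map (homOfLE h).op).hom := by
  have h1 : (𝒜.presheaf.map (homOfLE h).op).hom.comp (polyHom jL e) =
      (polyHom jL (QCoh.res L h e)).comp (Polynomial.mapRingHom (QCoh.rres h).hom) := by
    refine Polynomial.ringHom_ext (fun a => ?_) ?_
    · rw [RingHom.comp_apply, RingHom.comp_apply, Polynomial.coe_mapRingHom, Polynomial.map_C, polyHom, polyHom,
        Polynomial.coe_eval₂RingHom, Polynomial.coe_eval₂RingHom, Polynomial.eval₂_C, Polynomial.eval₂_C]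
      exact congr($(𝒜.str.naturality (homOfLE h).op).hom a).symm
    · rw [RingHom.comp_apply, RingHom.comp_apply, Polynomial.coe_mapRingHom, Polynomial.map_X, polyHom, polyHom,
        Polynomial.coe_eval₂RingHom, Polynomial.coe_eval₂RingHom, Polynomial.eval₂_X, Polynomial.eval₂_X]
      exact (QCoh.app_res jL h e).symm
  intro a b hab
  obtain ⟨f, rfl⟩ := (polyHom_bijective hA hW he).2 a
  obtain ⟨f', rfl⟩ := (polyHom_bijective hA hW he).2 b
  refine congrArg (polyHom jL e) (Polynomial.map_injective (QCoh.rres h).hom ?_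
    ((polyHom_bijective hA hW' (he.restrict h)).1 ((RingHom.congr_fun h1 f).symm.trans (hab.trans (RingHom.congr_fun h1 f')))))
  have : Nonempty W'.toScheme := hne.to_subtype
  exact map_injective_of_isIntegral X (homOfLE h) (H := this)

include hA in
/-- A line bundle over an integral scheme is integral. -/
theorem isIntegral_bundle (hL : PicF.IsInvertible L) [IsIntegral X] : IsIntegral 𝒜.toQCAlg.spec := by
  let J := {W : X.Opens // IsAffineOpen W ∧ (W : Set X).Nonempty ∧ ∃ e : Γ(L, W), IsGen L W e}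
  have hcov : ∀ z : 𝒜.toQCAlg.spec, ∃ (W : J) (P : Spec (𝒜.presheaf.obj (op W.1))), 𝒜.toQCAlg.ι W.1 W.2.1 P = z := by
    intro z
    obtain ⟨U, e, hxU, he⟩ := exists_isGen hL (π z)
    obtain ⟨W, hW, hzW, hWU⟩ := exists_isAffineOpen_mem_and_subset (X := X) (x := π z) (U := U) hxU
    obtain ⟨P, hP⟩ := RelSpecLib.exists_ι_apply_eq 𝒜.toQCAlg z W hW hzW
    exact ⟨⟨W, hW, ⟨π z, hzW⟩, _, he.restrict (show W ≤ U from hWU)⟩, P, hP⟩
  have hdom : ∀ W : J, IsDomain (𝒜.presheaf.obj (op W.1) : Type u) :=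
    fun W => isDomain_chart hA W.2.1 W.2.2.2.choose_spec W.2.2.1
  let gen : ∀ W : J, Spec (𝒜.presheaf.obj (op W.1)) := fun W =>
    (⟨⊥, by have := hdom W; exact Ideal.isPrime_bot⟩ : PrimeSpectrum (𝒜.presheaf.obj (op W.1) : Type u))
  let η : ∀ W : J, 𝒜.toQCAlg.spec := fun W => 𝒜.toQCAlg.ι W.1 W.2.1 (gen W)
  have hle : ∀ (W W' : J), W'.1 ≤ W.1 → η W' = η W := by
    intro W W' h
    have := congr($(RelSpecLib.map_res_ι 𝒜.toQCAlg W.2.1 W'.2.1 h) (gen W'))
    refine (this.symm.trans ?_)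
    refine congrArg (𝒜.toQCAlg.ι W.1 W.2.1) (PrimeSpectrum.ext ?_)
    exact Ideal.comap_bot_of_injective _ (res_injective hA W.2.1 W'.2.1 h W'.2.2.1 W.2.2.2.choose_spec)
  have hall : ∀ W W' : J, η W = η W' := by
    intro W W'
    obtain ⟨x, hx⟩ := nonempty_preirreducible_inter W.1.2 W'.1.2 W.2.2.1 W'.2.2.1
    obtain ⟨W'', hW'', hxW'', hle'⟩ := exists_isAffineOpen_mem_and_subset (X := X) (x := x) (U := W.1 ⊓ W'.1) hx
    replace hle' : W'' ≤ W.1 ⊓ W'.1 := hle'
    let W3 : J := ⟨W'', hW'', ⟨x, hxW''⟩, _, W.2.2.2.choose_spec.restrict (hle'.trans inf_le_left)⟩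
    exact (hle W W3 (hle'.trans inf_le_left)).symm.trans (hle W' W3 (hle'.trans inf_le_right))
  obtain ⟨x₀⟩ := (inferInstance : Nonempty X)
  obtain ⟨U, e, hxU, he⟩ := exists_isGen hL x₀
  obtain ⟨W, hW, hxW, hWU⟩ := exists_isAffineOpen_mem_and_subset (X := X) (x := x₀) (U := U) hxU
  let W₀ : J := ⟨W, hW, ⟨x₀, hxW⟩, _, he.restrict (show W ≤ U from hWU)⟩
  have hgen : ∀ (O : 𝒜.toQCAlg.spec.Opens), (O : Set 𝒜.toQCAlg.spec).Nonempty → η W₀ ∈ O := by
    rintro O ⟨z, hz⟩
    obtain ⟨W', P, rfl⟩ := hcov z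
    rw [hall W₀ W']
    have := hdom W'
    exact ((PrimeSpectrum.le_iff_specializes _ P).1 (bot_le (a := P.asIdeal))).map
      (𝒜.toQCAlg.ι W'.1 W'.2.1).continuous |>.mem_open O.2 hz
  have : IrreducibleSpace 𝒜.toQCAlg.spec :=
    { isPreirreducible_univ := fun u v hu hv ⟨a, _, ha⟩ ⟨b, _, hb⟩ =>
        ⟨η W₀, trivial, hgen ⟨u, hu⟩ ⟨a, ha⟩, hgen ⟨v, hv⟩ ⟨b, hb⟩⟩
      toNonempty := ⟨η W₀⟩ }
  have : IsReduced 𝒜.toQCAlg.spec := by
    let 𝒰 : 𝒜.toQCAlg.spec.OpenCover := Scheme.Cover.mkOfCovers J (fun W => Spec (𝒜.presheaf.obj (op W.1)))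
      (fun W => 𝒜.toQCAlg.ι W.1 W.2.1) hcov
    apply +allowSynthFailures @IsReduced.of_openCover (𝒰 := 𝒰)
    intro W
    have := hdom W
    exact inferInstanceAs (IsReduced (Spec (𝒜.presheaf.obj (op W.1))))
  exact isIntegral_of_irreducibleSpace_of_isReduced _

variable {aug : 𝒜.toQCAlg ⟶ RelSpec.QCAlg.unit X} (haug : RelCone.IsAugmentation 𝒜 aug)
  {j0 : X ⟶ 𝒜.toQCAlg.spec} {hj0 : RelCone.IsVertex 𝒜 aug j0} {p : X ⟶ Y} [IsProper p] (hθ : IsIso p.c)
  {ε₀ : Y ⟶ (contrAlg hj0 p).spec} {q₀ : 𝒜.toQCAlg.spec ⟶ (contrAlg hj0 p).spec} (hεq : IsContr hj0 p ε₀ q₀)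
  {V0 : 𝒜.toQCAlg.spec.Opens} (hV0 : (V0 : Set 𝒜.toQCAlg.spec) = (Set.range j0.base)ᶜ)
  (hamp : RelAmple.IsRelAmple p L)
  {C : Scheme.{u}} (g : C ⟶ Y) (ε : Y ⟶ C) (q : 𝒜.toQCAlg.spec ⟶ C) (hjq : j0 ≫ q = p ≫ ε)
  (u : (contrAlg hj0 p).spec ⟶ C) (hu : q₀ ≫ u = q) [IsProper q]
  (hqo : IsOpenImmersion (V0.ι ≫ q)) (hqr : Set.range (V0.ι ≫ q).base = (Set.range ε.base)ᶜ)

include hA haug hθ hεq hV0 hamp hjq hu hqo hqr in
theorem IsContr.isIso_of_normal (hL : PicF.IsInvertible L) [IsIntegral X] (hug : u ≫ g = (contrAlg hj0 p).π)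
    (hC : Pi1.IsNormalScheme C) : IsIso u := by
  obtain ⟨huc, hsurj, hinj, hiff, -⟩ := hεq.factor_props hA haug hθ hV0 hamp ε q hjq u hu hqo hqr g hug
  have hs := hεq.surjective hA haug hθ hV0 hamp
  have := isIntegral_bundle hA hL
  -- the source is integral
  have hirr' : IrreducibleSpace (contrAlg hj0 p).spec :=
    { isPreirreducible_univ := by
        rw [← hs.range_eq, ← Set.image_univ]
        exact (PreirreducibleSpace.isPreirreducible_univ (X := 𝒜.toQCAlg.spec)).image _ q₀.continuous.continuousOn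
      toNonempty := ⟨q₀ (Classical.arbitrary _)⟩ }
  have hred' : IsReduced (contrAlg hj0 p).spec :=
    ⟨fun O => ⟨fun a ha => (hεq.app_bijective' hθ O).1 ((ha.map (q₀.app O).hom).eq_zero.trans (map_zero _).symm)⟩⟩
  have hint' : IsIntegral (contrAlg hj0 p).spec := isIntegral_of_irreducibleSpace_of_isReduced _
  -- the target is integral
  have hirr : IrreducibleSpace C :=
    { isPreirreducible_univ := by
        rw [← hsurj.range_eq, ← Set.image_univ]
        exact (PreirreducibleSpace.isPreirreducible_univ (X := (contrAlg hj0 p).spec)).image _ u.continuous.continuousOn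
      toNonempty := ⟨u (Classical.arbitrary _)⟩ }
  have : ∀ c : C, _root_.IsReduced (C.presheaf.stalk c) := fun c => by
    have := (hC c).1
    infer_instance
  have : IsReduced C := isReduced_of_isReduced_stalk C
  have : IsIntegral C := isIntegral_of_irreducibleSpace_of_isReduced _
  have : IsAffineHom u := isAffineHom_of_isInducing u
    (Topology.IsClosedEmbedding.of_continuous_injective_isClosedMap u.continuous hinj u.isClosedMap).isInducing (by
      rw [hsurj.range_eq]; exact isClosed_univ)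
  have : IsIntegralHom u := IsIntegralHom.iff_universallyClosed_and_isAffineHom.2 ⟨huc, inferInstance⟩
  -- the open part
  let G : C.Opens := (V0.ι ≫ q).opensRange
  have hGne : (G : Set C).Nonempty := by
    obtain ⟨x₀⟩ := (inferInstance : Nonempty X)
    obtain ⟨U, e, hxU, he⟩ := exists_isGen hL x₀
    have hne : (𝒜.toQCAlg.spec.basicOpen (tau jL e) : Set 𝒜.toQCAlg.spec).Nonempty := by
      obtain ⟨W, hW, hxW, hWU⟩ := exists_isAffineOpen_mem_and_subset (X := X) (x := x₀) (U := U) hxU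
      replace hWU : W ≤ U := hWU
      rw [basicOpen_tau hA haug hj0 hV0 he]
      by_contra hempty
      rw [Set.not_nonempty_iff_eq_empty] at hempty
      have : Nonempty W.toScheme := ⟨⟨x₀, hxW⟩⟩
      have h1 : 𝒜.toQCAlg.spec.basicOpen (tau jL (QCoh.res L hWU e)) = ⊥ := by
        rw [basicOpen_tau hA haug hj0 hV0 (he.restrict hWU), eq_bot_iff]
        intro z hz
        exact hempty.le ⟨hz.1, hWU hz.2⟩
      have h2 := (Scheme.isNilpotent_iff_basicOpen_eq_bot_of_isCompact (hW.preimage π).isCompact _).2 h1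
      have h3 := h2.map (𝒜.toQCAlg.gammaMap.app (op W)).hom
      rw [gammaMap_tau] at h3
      have := isDomain_chart hA hW (he.restrict hWU) ⟨x₀, hxW⟩
      have h4 : polyHom jL (QCoh.res L hWU e) Polynomial.X = polyHom jL (QCoh.res L hWU e) 0 := by
        rw [map_zero, polyHom, Polynomial.coe_eval₂RingHom, Polynomial.eval₂_X]
        exact h3.eq_zero
      exact Polynomial.X_ne_zero ((polyHom_bijective hA hW (he.restrict hWU)).1 h4)
    obtain ⟨z, hz⟩ := hne
    exact ⟨q z, ⟨⟨z, ((basicOpen_tau hA haug hj0 hV0 he).le hz).1⟩, rfl⟩⟩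
  have hG : ∀ c, u c ∈ G ↔ c ∉ Set.range ε₀.base := fun c => by
    rw [← hiff]
    exact Set.ext_iff.1 hqr (u c)
  have hisoG : IsIso (u ∣_ G) := by
    obtain ⟨ho, -, -⟩ := hεq.openImmersion hA haug hV0 hamp
    let G' : (contrAlg hj0 p).spec.Opens := (V0.ι ≫ q₀).opensRange
    have hpre : u ⁻¹ᵁ G = G' := by
      ext c
      exact (hG c).trans (Set.ext_iff.1 (hεq.range_eq hA haug hV0 hamp) c).symm
    have : IsOpenImmersion ((u ⁻¹ᵁ G).ι ≫ u) := by
      have e : (u ⁻¹ᵁ G).ι ≫ u = ((contrAlg hj0 p).spec.isoOfEq hpre).hom ≫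
          (V0.ι ≫ q₀).isoOpensRange.inv ≫ (V0.ι ≫ q) := by
        rw [← hu, ← Category.assoc V0.ι, Scheme.Hom.isoOpensRange_inv_comp_assoc, Scheme.isoOfEq_hom_ι_assoc]
      rw [e]; infer_instance
    have : IsOpenImmersion (u ∣_ G) := by
      have : IsOpenImmersion ((u ∣_ G) ≫ G.ι) := by rw [morphismRestrict_ι]; infer_instance
      exact IsOpenImmersion.of_comp (u ∣_ G) G.ι
    refine (isIso_iff_isOpenImmersion_and_surjective _).2 ⟨inferInstance, ⟨fun c => ?_⟩⟩
    obtain ⟨d, hd⟩ := hsurj c.1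
    refine ⟨⟨d, show u d ∈ G from hd.symm ▸ c.2⟩, Subtype.ext ?_⟩
    exact (congr($(morphismRestrict_ι u G) ⟨d, show u d ∈ G from hd.symm ▸ c.2⟩)).trans hd
  change MorphismProperty.isomorphisms Scheme u
  rw [HasAffineProperty.iff_of_iSup_eq_top (P := MorphismProperty.isomorphisms Scheme)
    (fun U : C.affineOpens => U) (iSup_affineOpens_eq_top C)]
  rintro ⟨W, hW⟩
  refine ⟨hW.preimage u, ?_⟩
  rw [morphismRestrict_appTop]
  have key : ∀ Q : C.Opens, Q = W → Function.Bijective (u.app Q) := by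
    rintro Q rfl
    rcases (Q : Set C).eq_empty_or_nonempty with h0 | hne
    · obtain rfl : Q = ⊥ := Opens.ext h0
      have : Subsingleton Γ(C, ⊥) := inferInstance
      have : Subsingleton Γ((contrAlg hj0 p).spec, u ⁻¹ᵁ ⊥) := by rw [Scheme.Hom.preimage_bot]; infer_instance
      exact ⟨fun a b _ => Subsingleton.elim a b, fun b => ⟨0, Subsingleton.elim _ _⟩⟩
    have : Nonempty Q.toScheme := hne.to_subtype
    obtain ⟨c₀, hc₀⟩ := hne
    obtain ⟨d₀, rfl⟩ := hsurj c₀
    have : Nonempty (u ⁻¹ᵁ Q).toScheme := ⟨⟨d₀, hc₀⟩⟩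
    have hinjQ : Function.Injective (u.app Q) := by
      refine (injective_iff_map_eq_zero (u.app Q).hom).2 fun a ha => ?_
      refine (basicOpen_eq_bot_iff a).1 ?_
      rw [eq_bot_iff]
      intro c hc
      obtain ⟨d, rfl⟩ := hsurj c
      have : d ∈ (contrAlg hj0 p).spec.basicOpen (u.app Q a) := (Scheme.preimage_basicOpen u a).le hc
      rw [show u.app Q a = 0 from ha, Scheme.basicOpen_zero] at this
      exact this
    obtain ⟨c₁, hc₁⟩ : ((Q : Set C) ∩ G).Nonempty := nonempty_preirreducible_inter Q.2 G.2 ⟨_, hc₀⟩ hGne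
    obtain ⟨a, haG, hca⟩ := hW.exists_basicOpen_le (V := G) ⟨c₁, hc₁.2⟩ hc₁.1
    have : Nonempty (C.basicOpen a).toScheme := ⟨⟨c₁, hca⟩⟩
    have hbD : Function.Bijective (u.app (C.basicOpen a)) := by
      have h1 : IsIso ((u ∣_ G).app (G.ι ⁻¹ᵁ C.basicOpen a)) := inferInstance
      rw [morphismRestrict_app] at h1
      have h2 : IsIso (u.app (G.ι ''ᵁ (G.ι ⁻¹ᵁ C.basicOpen a))) := @IsIso.of_isIso_comp_right _ _ _ _ _ _ _ (Functor.map_isIso _ _) h1
      have e : G.ι ''ᵁ (G.ι ⁻¹ᵁ C.basicOpen a) = C.basicOpen a := by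
        rw [Scheme.Hom.image_preimage_eq_opensRange_inf, Scheme.Opens.opensRange_ι, inf_eq_right.2 haG]
      rw [e] at h2
      exact (ConcreteCategory.isIso_iff_bijective _).1 h2
    refine ⟨hinjQ, fun z => ?_⟩
    let algQ : Algebra Γ(C, Q) Γ((contrAlg hj0 p).spec, u ⁻¹ᵁ Q) := (u.app Q).hom.toAlgebra
    have hz : IsIntegral Γ(C, Q) z := (u.isIntegral_app Q hW) z
    let algD : Algebra Γ(C, Q) Γ(C, C.basicOpen a) := (C.presheaf.map (homOfLE (C.basicOpen_le a)).op).hom.toAlgebra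
    have : IsLocalization.Away a Γ(C, C.basicOpen a) := hW.isLocalization_basicOpen a
    obtain ⟨y, hy⟩ := hbD.2 (QCoh.rres (u.preimage_mono (C.basicOpen_le a)) z)
    obtain ⟨n, c, hc⟩ := IsLocalization.Away.surj a y
    have hrinj : Function.Injective (QCoh.rres (u.preimage_mono (C.basicOpen_le a)) :
        Γ((contrAlg hj0 p).spec, u ⁻¹ᵁ Q) ⟶ _) := by
      obtain ⟨d₁, hd₁⟩ := hsurj c₁
      have : Nonempty (u ⁻¹ᵁ C.basicOpen a).toScheme := ⟨⟨d₁, show u d₁ ∈ C.basicOpen a from hd₁.symm ▸ hca⟩⟩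
      exact map_injective_of_isIntegral (contrAlg hj0 p).spec (homOfLE (u.preimage_mono (C.basicOpen_le a)))
    have hn : ∀ x, u.app (C.basicOpen a) (algebraMap Γ(C, Q) Γ(C, C.basicOpen a) x) =
        QCoh.rres (u.preimage_mono (C.basicOpen_le a)) (u.app Q x) :=
      fun x => congr($(u.naturality (homOfLE (C.basicOpen_le a)).op).hom x)
    have hcz : u.app Q c = u.app Q (a ^ n) * z := by
      refine hrinj ?_
      rw [map_mul, ← hn, ← hn, ← hy, ← map_mul, map_pow, ← hc, mul_comm]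
    have ha0 : a ^ n ≠ 0 := by
      intro h
      have h1 : IsNilpotent a := ⟨n, h⟩
      have h2 := C.basicOpen_eq_bot_of_isNilpotent Q a h1
      exact (h2 ▸ hca : c₁ ∈ (⊥ : C.Opens))
    have hIC : IsIntegrallyClosed Γ(C, Q) := Groth.Agent.NormalSec.isIntegrallyClosed_sections Q
      (fun y _ => (hC y).1) (fun y _ => (hC y).2)
      fun b hb y hy h => hb (germ_injective_of_isIntegral C y hy (h.trans (map_zero _).symm))
    let K := FractionRing Γ(C, Q)
    let K' := FractionRing Γ((contrAlg hj0 p).spec, u ⁻¹ᵁ Q)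
    let ψ : K →+* K' := IsFractionRing.lift (A := Γ(C, Q)) (g := (algebraMap Γ((contrAlg hj0 p).spec, u ⁻¹ᵁ Q) K').comp (u.app Q).hom)
      ((IsFractionRing.injective Γ((contrAlg hj0 p).spec, u ⁻¹ᵁ Q) K').comp hinjQ)
    have hψ : ∀ x, ψ (algebraMap Γ(C, Q) K x) = algebraMap _ K' (u.app Q x) := fun x =>
      IsFractionRing.lift_algebraMap _ x
    have hane : algebraMap Γ(C, Q) K (a ^ n) ≠ 0 := fun h => ha0 (IsFractionRing.injective _ K (h.trans (map_zero _).symm))
    let w : K := algebraMap Γ(C, Q) K c / algebraMap Γ(C, Q) K (a ^ n)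
    have hw : ψ w = algebraMap _ K' z := by
      rw [map_div₀, hψ, hψ, hcz, map_mul, mul_div_cancel_left₀]
      rw [← hψ]
      exact (map_ne_zero ψ).2 hane
    obtain ⟨P, hPm, hP⟩ := hz
    have hwint : IsIntegral Γ(C, Q) w := by
      refine ⟨P, hPm, ψ.injective ?_⟩
      rw [map_zero, Polynomial.hom_eval₂, show ψ.comp (algebraMap Γ(C, Q) K) =
        (algebraMap _ K').comp (u.app Q).hom from RingHom.ext hψ, hw, ← Polynomial.hom_eval₂]
      exact (congrArg _ hP).trans (map_zero _)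
    obtain ⟨x, hx⟩ := IsIntegrallyClosed.isIntegral_iff.1 hwint
    refine ⟨x, IsFractionRing.injective _ K' ?_⟩
    rw [← hw, ← hx, hψ]
  have := key _ ((Scheme.Hom.image_top_eq_opensRange _).trans W.opensRange_ι)
  rw [← ConcreteCategory.isIso_iff_bijective] at this
  refine IsIso.comp_isIso' this ?_
  exact Functor.map_isIso _ _

end Groth.Agent.Contr65

end
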