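import Groth.Agent.Contr65.Forward
import Mathlib.AlgebraicGeometry.Morphisms.Finite
import Mathlib.AlgebraicGeometry.Morphisms.Proper

/-! Over a proper morphism the contraction is proper, and its image is the whole cone. -/

noncomputable section

universe u

open CategoryTheory CategoryTheory.Limits AlgebraicGeometry TopologicalSpace Opposite
open RelProj
open Groth.Agent.Props.GenLocus Groth.Agent.Props.GenProd

namespace Groth.Agent.Contr65

variable {X Y : Scheme.{u}} {L : X.Modules} {𝒜 : QCGrAlg X}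
  [L.IsQuasicoherent] {jL : L ⟶ 𝒜.toModule} (hA : IsGrSymAlg L 𝒜 jL)
  {aug : 𝒜.toQCAlg ⟶ RelSpec.QCAlg.unit X} (haug : RelCone.IsAugmentation 𝒜 aug)
  {j0 : X ⟶ 𝒜.toQCAlg.spec} {hj0 : RelCone.IsVertex 𝒜 aug j0} {p : X ⟶ Y} [IsProper p]
  {ε : Y ⟶ (contrAlg hj0 p).spec} {q : 𝒜.toQCAlg.spec ⟶ (contrAlg hj0 p).spec} (hεq : IsContr hj0 p ε q)
  {V0 : 𝒜.toQCAlg.spec.Opens} (hV0 : (V0 : Set 𝒜.toQCAlg.spec) = (Set.range j0.base)ᶜ)
  (hamp : RelAmple.IsRelAmple p L)

set_option allowUnsafeReducibility true in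
attribute [local reducible] RelSpec.QCAlg.unit

local notation "π" => 𝒜.toQCAlg.π

/-- The morphism to `X ×_Y C`. -/
def toFib : 𝒜.toQCAlg.spec ⟶ pullback p (contrAlg hj0 p).π :=
  pullback.lift π q hεq.q_π.symm

set_option maxHeartbeats 4000000 in
include hA haug hV0 hamp in
theorem isFinite_toFib : IsFinite (toFib hεq) := by
  classical
  have hfst : toFib hεq ≫ pullback.fst p (contrAlg hj0 p).π = π := pullback.lift_fst _ _ _
  have hsnd : toFib hεq ≫ pullback.snd p (contrAlg hj0 p).π = q := pullback.lift_snd _ _ _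
  have : IsAffineHom (pullback.fst p (contrAlg hj0 p).π) := MorphismProperty.pullback_fst (P := @IsAffineHom) _ _ (RelSpec.QCAlg.isAffineHom_π _)
  let ι := {W : X.affineOpens // ∃ (U : Y.affineOpens) (k : ℕ) (σ : Γ(CohB1.tensorPow L (k + 1), p ⁻¹ᵁ U.1))
    (s : Γ(𝒜.toQCAlg.spec, (π ≫ p) ⁻¹ᵁ U.1)) (e : Γ(L, W.1)) (he : IsGen L W.1 e),
      W.1 ≤ AmpleLib.locus σ ∧ jres p (π ≫ p) j0 (j0_comp hj0 p) U.1 s = 0 ∧
      ∀ (W' : X.Opens) (hWO : W' ≤ p ⁻¹ᵁ U.1) (e' : Γ(L, W')) (he' : IsGen L W' e'),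
        QCoh.rres ((π).preimage_mono hWO) s = (π).app W' (co (k + 1) σ hWO he') * tau jL e' ^ (k + 1)}
  rw [HasAffineProperty.iff_of_iSup_eq_top (P := @IsFinite)
    (fun i : ι => (⟨pullback.fst p (contrAlg hj0 p).π ⁻¹ᵁ i.1.1, i.1.2.preimage _⟩ :
      (pullback p (contrAlg hj0 p).π).affineOpens)) ?cov]
  case cov =>
    rw [eq_top_iff]
    intro z _
    set x := pullback.fst p (contrAlg hj0 p).π z with hx
    obtain ⟨U, hU, hxU, -⟩ := exists_isAffineOpen_mem_and_subset (X := Y) (x := p x) (U := ⊤) trivial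
    obtain ⟨k, σ, s, hxσ, -, hs0, -, -, hsW⟩ := exists_fun (hj0 := hj0) hA haug hV0 hamp U hU x hxU
    obtain ⟨U₁, e₁, hxU₁, he₁⟩ := exists_isGen (AmpleLib.isRelAmple_iff.1 hamp).2.1 x
    obtain ⟨W, hW, hxW, hWle⟩ := exists_isAffineOpen_mem_and_subset (X := X) (x := x)
      (U := U₁ ⊓ AmpleLib.locus σ) ⟨hxU₁, hxσ⟩
    replace hWle : W ≤ U₁ ⊓ AmpleLib.locus σ := hWle
    exact Opens.mem_iSup.2 ⟨⟨⟨W, hW⟩, ⟨U, hU⟩, k, σ, s, QCoh.res L (hWle.trans inf_le_left) e₁,
      he₁.restrict _, hWle.trans inf_le_right, hs0, hsW⟩, hxW⟩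
  rintro ⟨⟨W, hW⟩, ⟨U, hU⟩, k, σ, s, e, he, hWσ, hs0, hsW⟩
  dsimp only at *
  set P := pullback.fst p (contrAlg hj0 p).π ⁻¹ᵁ W with hP
  have hPW : toFib hεq ⁻¹ᵁ P = π ⁻¹ᵁ W := by rw [hP, ← Scheme.Hom.comp_preimage, hfst]
  haveI : IsAffine P.toScheme := hW.preimage _
  refine ⟨show IsAffineOpen (toFib hεq ⁻¹ᵁ P) from hPW ▸ hW.preimage π, ?_⟩
  rw [morphismRestrict_appTop]
  have key : ∀ Q : (pullback p (contrAlg hj0 p).π).Opens, Q = P → ((toFib hεq).app Q).hom.Finite := by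
    rintro Q rfl
    have hWU : W ≤ p ⁻¹ᵁ U := hWσ.trans (AmpleLib.locus_le σ)
    have hPU : pullback.fst p (contrAlg hj0 p).π ⁻¹ᵁ W ≤
        pullback.snd p (contrAlg hj0 p).π ⁻¹ᵁ ((contrAlg hj0 p).π ⁻¹ᵁ U) := by
      rw [← Scheme.Hom.comp_preimage, ← pullback.condition, Scheme.Hom.comp_preimage]
      exact Scheme.Hom.preimage_mono _ hWU
    let r : Γ(pullback p (contrAlg hj0 p).π, P) →+* Γ(𝒜.toQCAlg.spec, π ⁻¹ᵁ W) :=
      ((toFib hεq).appLE P (π ⁻¹ᵁ W) hPW.ge).hom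
    have hr : r.Finite := by
      algebraize [r]
      change Module.Finite _ _
      let t := tau jL e
      let S : Submodule Γ(pullback p (contrAlg hj0 p).π, P) Γ(𝒜.toQCAlg.spec, π ⁻¹ᵁ W) :=
        Submodule.span _ (Set.range fun i : Fin (k + 1) => t ^ (i : ℕ))
      have hbase : ∀ a : Γ(X, W), ∃ a', r a' = (π).app W a := by
        intro a
        refine ⟨(pullback.fst p (contrAlg hj0 p).π).app W a, ?_⟩
        change (((pullback.fst p (contrAlg hj0 p).π).app W) ≫ (toFib hεq).appLE P (π ⁻¹ᵁ W) hPW.ge) a = _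
        rw [← Scheme.Hom.comp_appLE, Scheme.Hom.app_eq_appLE (f := π)]
        congr 3
      have hmem : ((0, s) : Γ(Y, U) × Γ(𝒜.toQCAlg.spec, (π ≫ p) ⁻¹ᵁ U)) ∈
          fib p (π ≫ p) j0 (j0_comp hj0 p) U := by rw [mem_fib, map_zero, hs0]
      obtain ⟨β, hβ⟩ := exists_elt U hU ⟨_, hmem⟩
      obtain ⟨s', hs'⟩ : ∃ s', r s' = QCoh.rres ((π).preimage_mono hWU) s := by
        refine ⟨(pullback.snd p (contrAlg hj0 p).π).appLE _ P hPU β, ?_⟩
        change ((pullback.snd p (contrAlg hj0 p).π).appLE _ P hPU ≫ (toFib hεq).appLE P (π ⁻¹ᵁ W) hPW.ge) β = _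
        rw [Scheme.Hom.appLE_comp_appLE]
        have hq' : π ⁻¹ᵁ W ≤ q ⁻¹ᵁ ((contrAlg hj0 p).π ⁻¹ᵁ U) := by
          rw [hεq.preimage_π]; exact (π).preimage_mono hWU
        have e1 : (toFib hεq ≫ pullback.snd p (contrAlg hj0 p).π).appLE ((contrAlg hj0 p).π ⁻¹ᵁ U) (π ⁻¹ᵁ W)
            (by rw [hsnd]; exact hq') = q.appLE ((contrAlg hj0 p).π ⁻¹ᵁ U) (π ⁻¹ᵁ W) hq' := by
          congr 1
        rw [e1, ← Scheme.Hom.appLE_map q (hεq.preimage_π U).ge (homOfLE ((π).preimage_mono hWU)).op,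
          CommRingCat.comp_apply, hεq.q_app U hU _ _ β hβ]
        rfl
      obtain ⟨v, hv⟩ : IsUnit (co (k + 1) σ hWU he) := by
        have h1 := AmpleLib.locus_inf_eq hWU he σ
        rw [inf_eq_right.2 hWσ] at h1
        have h0 : IsUnit (QCoh.rres (X.basicOpen_le _) (co (k + 1) σ hWU he)) :=
          X.toRingedSpace.isUnit_res_basicOpen (co (k + 1) σ hWU he)
        have h2 := h0.map (QCoh.rres h1.le).hom
        rwa [QCoh.rres_rres, QCoh.rres_self] at h2
      obtain ⟨vi, hvi⟩ := hbase (v⁻¹ : Γ(X, W)ˣ)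
      have ht : r (vi * s') = t ^ (k + 1) := by
        rw [map_mul, hvi, hs', hsW W hWU e he, ← mul_assoc, ← map_mul, ← hv, Units.inv_mul, map_one, one_mul]
      have hpow : ∀ n, t ^ n ∈ S := by
        intro n
        induction n using Nat.strong_induction_on with
        | _ n ih =>
          rcases lt_or_ge n (k + 1) with h | h
          · exact Submodule.subset_span ⟨⟨n, h⟩, rfl⟩
          · obtain ⟨m, rfl⟩ := Nat.exists_eq_add_of_le h
            have h2 := S.smul_mem (vi * s') (ih m (by omega))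
            rw [Algebra.smul_def, RingHom.algebraMap_toAlgebra, ht, ← pow_add] at h2
            exact h2
      refine ⟨⟨Finset.univ.image fun i : Fin (k + 1) => t ^ (i : ℕ), ?_⟩⟩
      rw [Finset.coe_image, Finset.coe_univ, Set.image_univ, eq_top_iff]
      rintro z -
      obtain ⟨f, hf⟩ := (polyHom_bijective hA hW he).2 ((𝒜.toQCAlg.gammaMap.app (op W)).hom z)
      have hz : z = f.eval₂ ((π).app W).hom t := by
        refine gammaMap_injective W ?_
        rw [← hf, Polynomial.hom_eval₂, gammaMap_tau]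
        change Polynomial.eval₂ _ _ f = _
        congr 1
        exact RingHom.ext fun a => (gammaMap_π W a).symm
      rw [hz, Polynomial.eval₂_eq_sum, Polynomial.sum_def]
      refine S.sum_mem fun i _ => ?_
      obtain ⟨c, hc⟩ := hbase (f.coeff i)
      have h2 := S.smul_mem c (hpow i)
      rwa [Algebra.smul_def, RingHom.algebraMap_toAlgebra, hc] at h2
    have e2 : ((toFib hεq).app P).hom =
        (𝒜.toQCAlg.spec.presheaf.map (eqToHom hPW).op).hom.comp r := by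
      simp only [r, Scheme.Hom.appLE, ← CommRingCat.hom_comp, Category.assoc, ← Functor.map_comp]
      rw [Subsingleton.elim ((homOfLE hPW.ge).op ≫ (eqToHom hPW).op) (𝟙 _), CategoryTheory.Functor.map_id,
        Category.comp_id]
    rw [e2]
    refine RingHom.Finite.comp (RingHom.Finite.of_surjective _ ?_) hr
    exact ((ConcreteCategory.isIso_iff_bijective (𝒜.toQCAlg.spec.presheaf.map _)).1 (Functor.map_isIso _ _)).2
  refine RingHom.Finite.comp (RingHom.Finite.of_surjective _ ?_)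
    (key _ ((Scheme.Hom.image_top_eq_opensRange _).trans P.opensRange_ι))
  exact ((ConcreteCategory.isIso_iff_bijective (𝒜.toQCAlg.spec.presheaf.map _)).1 (Functor.map_isIso _ _)).2

include hA haug hεq hV0 hamp in
theorem IsContr.isProper : IsProper q := by
  have := isFinite_toFib hA haug hεq hV0 hamp
  rw [show q = toFib hεq ≫ pullback.snd p (contrAlg hj0 p).π from (pullback.lift_snd _ _ _).symm]
  infer_instance

include hεq in
omit [L.IsQuasicoherent] in
theorem IsContr.isClosed_range : IsClosed (Set.range ε.base) := by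
  have : IsClosedImmersion (ε ≫ (contrAlg hj0 p).π) := by rw [hεq.ε_π]; infer_instance
  have : IsClosedImmersion ε := IsClosedImmersion.of_comp ε (contrAlg hj0 p).π
  exact ε.isClosedEmbedding.isClosed_range

include hA haug hεq hV0 hamp in
theorem IsContr.range_eq : Set.range (V0.ι ≫ q).base = (Set.range ε.base)ᶜ := by
  have := hεq.isProper hA haug hV0 hamp
  refine Set.Subset.antisymm (fun w hw hw' =>
    ((hεq.openImmersion hA haug hV0 hamp).2.2).le ⟨hw, hw'⟩) fun w hw => ?_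
  obtain ⟨U, hU, hwU, -⟩ := exists_isAffineOpen_mem_and_subset (X := Y) (x := (contrAlg hj0 p).π w) (U := ⊤) trivial
  replace hwU : w ∈ (contrAlg hj0 p).π ⁻¹ᵁ U := hwU
  suffices w ∈ Set.range q.base by
    obtain ⟨v, rfl⟩ := this
    refine ⟨⟨v, (Set.ext_iff.1 hV0 v).2 ?_⟩, rfl⟩
    rintro ⟨x, rfl⟩
    exact hw ⟨p x, congr($(hεq.comm) x).symm⟩
  by_contra hnot
  obtain ⟨β, hle, hwβ⟩ := (hU.preimage (contrAlg hj0 p).π).exists_basicOpen_le
    (V := ⟨(Set.range q.base)ᶜ, q.isClosedMap.isClosed_range.isOpen_compl⟩) ⟨w, hnot⟩ hwU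
  let b : fib p (π ≫ p) j0 (j0_comp hj0 p) U := (contrAlg hj0 p).gammaAff U hU β
  have h1 : IsNilpotent b.1.2 := by
    rw [Scheme.isNilpotent_iff_basicOpen_eq_bot_of_isCompact (Scheme.Hom.isCompact_preimage _ hU.isCompact),
      ← (hεq.preimage_basicOpen hU b β rfl).1, eq_bot_iff]
    intro v hv
    exact (hle hv ⟨v, rfl⟩).elim
  obtain ⟨n, hn⟩ := h1
  obtain ⟨γ, hγle, hwγ⟩ := (hU.preimage (contrAlg hj0 p).π).exists_basicOpen_le
    (V := ⟨(Set.range ε.base)ᶜ, hεq.isClosed_range.isOpen_compl⟩) ⟨w, hw⟩ hwU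
  let c : fib p (π ≫ p) j0 (j0_comp hj0 p) U := (contrAlg hj0 p).gammaAff U hU γ
  have h2 : IsNilpotent c.1.1 := by
    rw [Scheme.isNilpotent_iff_basicOpen_eq_bot_of_isCompact hU.isCompact,
      ← (hεq.preimage_basicOpen hU c γ rfl).2, eq_bot_iff]
    intro v hv
    exact (hγle hv ⟨v, rfl⟩).elim
  obtain ⟨m, hm⟩ := h2
  have hzero : β ^ (n + 1) * γ ^ (m + 1) = 0 := by
    have hinj : Function.Injective ((contrAlg hj0 p).gammaAff U hU) := by
      have := S8255.result (contrAlg hj0 p)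
      rw [← (contrAlg hj0 p).gammaMap_app U hU]
      exact ((ConcreteCategory.isIso_iff_bijective _).1
        ((asIso (contrAlg hj0 p).gammaMap).app (op U)).isIso_hom).1
    refine hinj ?_
    rw [map_mul, map_pow, map_pow, map_zero]
    refine Subtype.ext (Prod.ext ?_ ?_)
    · change b.1.1 ^ (n + 1) * c.1.1 ^ (m + 1) = 0
      rw [pow_succ c.1.1, hm, zero_mul, mul_zero]
    · change b.1.2 ^ (n + 1) * c.1.2 ^ (m + 1) = 0
      rw [pow_succ b.1.2, hn, zero_mul, zero_mul]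
  have h3 : w ∈ (contrAlg hj0 p).spec.basicOpen (β ^ (n + 1) * γ ^ (m + 1)) := by
    rw [Scheme.basicOpen_mul, Scheme.basicOpen_pow _ _ n.succ_pos, Scheme.basicOpen_pow _ _ m.succ_pos]
    exact ⟨hwβ, hwγ⟩
  rw [hzero, Scheme.basicOpen_zero] at h3
  exact h3

end Groth.Agent.Contr65

end
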