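import Groth.Prelude.Def_RelSpec2
import Groth.Agent.RelProjLib.AmpleImm
import Groth.Agent.RelSpecLib.Vertex
import Groth.Agent.AmpleLib.Rel
import Groth.Agent.S8255

/-! The functions on a line bundle `V(L)` given by sections of `L` and of its powers, and the zero section. -/

noncomputable section

universe u

open CategoryTheory CategoryTheory.Limits AlgebraicGeometry TopologicalSpace Opposite
open RelProj
open Groth.Agent.Props.GenLocus Groth.Agent.Props.GenProd Groth.Agent.RelProjLib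

namespace Groth.Agent.Contr65

variable {X : Scheme.{u}} {L : X.Modules} {𝒜 : QCGrAlg X}

set_option allowUnsafeReducibility true in
attribute [local reducible] RelSpec.QCAlg.unit

local notation "π" => 𝒜.toQCAlg.π

instance (A : RelSpec.QCAlg X) : IsIso A.gammaMap := S8255.result A

lemma gammaMap_bijective (O : X.Opens) : Function.Bijective (𝒜.toQCAlg.gammaMap.app (op O)).hom :=
  (ConcreteCategory.isIso_iff_bijective _).1
    (((asIso 𝒜.toQCAlg.gammaMap).app (op O)).isIso_hom)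

/-- The function on `V(L)` given by a section of `L`. -/
def tau (j : L ⟶ 𝒜.toModule) {O : X.Opens} (e : Γ(L, O)) : Γ(𝒜.toQCAlg.spec, π ⁻¹ᵁ O) :=
  ((inv 𝒜.toQCAlg.gammaMap).app (op O)).hom (j.app O e)

lemma gammaMap_tau (j : L ⟶ 𝒜.toModule) {O : X.Opens} (e : Γ(L, O)) :
    (𝒜.toQCAlg.gammaMap.app (op O)).hom (tau j e) = j.app O e :=
  congr($(NatTrans.congr_app (IsIso.inv_hom_id 𝒜.toQCAlg.gammaMap) (op O)).hom (j.app O e))

lemma gammaMap_injective (O : X.Opens) : Function.Injective (𝒜.toQCAlg.gammaMap.app (op O)).hom :=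
  (gammaMap_bijective O).1

lemma gammaMap_π (O : X.Opens) (r : Γ(X, O)) :
    (𝒜.toQCAlg.gammaMap.app (op O)).hom ((π).app O r) = (𝒜.str.app (op O)).hom r :=
  congr($(NatTrans.congr_app 𝒜.toQCAlg.π_c_gammaMap (op O)).hom r)

lemma gammaMap_res {O O' : X.Opens} (h : O' ≤ O) (a : Γ(𝒜.toQCAlg.spec, π ⁻¹ᵁ O)) :
    (𝒜.toQCAlg.gammaMap.app (op O')).hom (QCoh.rres ((π).preimage_mono h) a) =
      (𝒜.presheaf.map (homOfLE h).op).hom ((𝒜.toQCAlg.gammaMap.app (op O)).hom a) :=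
  congr($(𝒜.toQCAlg.gammaMap.naturality (homOfLE h).op).hom a)

lemma rres_tau (j : L ⟶ 𝒜.toModule) {O O' : X.Opens} (h : O' ≤ O) (e : Γ(L, O)) :
    QCoh.rres ((π).preimage_mono h) (tau j e) = tau j (QCoh.res L h e) := by
  refine gammaMap_injective O' ?_
  rw [gammaMap_res, gammaMap_tau, gammaMap_tau]
  exact (QCoh.app_res j h e).symm

lemma tau_smul (j : L ⟶ 𝒜.toModule) {O : X.Opens} (a : Γ(X, O)) (e : Γ(L, O)) :
    tau j (a • e) = (π).app O a * tau j e := by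
  refine gammaMap_injective O ?_
  rw [map_mul, gammaMap_π, gammaMap_tau, gammaMap_tau]
  exact j.app_smul a e

lemma ι_preimage_basicOpen {W : X.Opens} (hW : IsAffineOpen W) (a : Γ(𝒜.toQCAlg.spec, π ⁻¹ᵁ W)) :
    𝒜.toQCAlg.ι W hW ⁻¹ᵁ 𝒜.toQCAlg.spec.basicOpen a =
      PrimeSpectrum.basicOpen ((𝒜.toQCAlg.gammaMap.app (op W)).hom a) := by
  rw [RelSpecLib.ι_eq, Scheme.Hom.comp_preimage, (hW.preimage π).fromSpec_preimage_basicOpen,
    𝒜.toQCAlg.gammaMap_app W hW]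
  rfl

variable [L.IsQuasicoherent] {jL : L ⟶ 𝒜.toModule} (hA : IsGrSymAlg L 𝒜 jL)

variable (jL) in
/-- Polynomials in the generator. -/
def polyHom {W : X.Opens} (e : Γ(L, W)) : Polynomial Γ(X, W) →+* (𝒜.presheaf.obj (op W) : Type u) :=
  Polynomial.eval₂RingHom (𝒜.str.app (op W)).hom (jL.app W e)

include hA in
lemma polyHom_bijective {W : X.Opens} (hW : IsAffineOpen W) {e : Γ(L, W)} (he : IsGen L W e) :
    Function.Bijective (polyHom jL e) := by
  classical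
  have hgen : AmpleImm.gen e jL le_rfl = jL.app W e := congrArg (jL.app W) (QCoh.res_self L le_rfl e)
  have hmem : ∀ (d : ℕ) (c : Γ(X, W)),
      (𝒜.str.app (op W)).hom c * (show (𝒜.presheaf.obj (op W) : Type u) from jL.app W e) ^ d ∈ 𝒜.deg W hW d :=
    fun d c => hgen ▸ AmpleImm.str_mul_gen_mem hA e hW le_rfl c d
  constructor
  · refine (injective_iff_map_eq_zero _).2 fun p hp => Polynomial.ext fun d => ?_
    have h1 : (DirectSum.decompose (𝒜.deg W hW) (polyHom jL e p) d : 𝒜.presheaf.obj (op W)) =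
        (𝒜.str.app (op W)).hom (p.coeff d) * (show (𝒜.presheaf.obj (op W) : Type u) from jL.app W e) ^ d := by
      rw [polyHom, Polynomial.coe_eval₂RingHom, Polynomial.eval₂_eq_sum, Polynomial.sum_def,
        DirectSum.decompose_sum, DFinsupp.finsetSum_apply, AddSubmonoidClass.coe_finsetSum,
        Finset.sum_eq_single d]
      · exact DirectSum.decompose_of_mem_same _ (hmem d _)
      · intro i _ hi
        exact DirectSum.decompose_of_mem_ne _ (hmem i _) hi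
      · intro hd
        rw [Polynomial.notMem_support_iff.1 hd, map_zero, zero_mul, DirectSum.decompose_zero]
        rfl
    rw [hp, DirectSum.decompose_zero] at h1
    obtain ⟨c, -, huniq⟩ := AmpleImm.existsUnique_gen hA he hW le_rfl (zero_mem (𝒜.deg W hW d))
    rw [Polynomial.coeff_zero]
    refine (huniq _ ?_).trans (huniq 0 ?_).symm
    · rw [hgen]; exact h1
    · beta_reduce; rw [map_zero, zero_mul]
  · intro a
    rw [← DirectSum.sum_support_decompose (𝒜.deg W hW) a]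
    refine (polyHom jL e).range.sum_mem fun d _ => ?_
    obtain ⟨c, hc, -⟩ := AmpleImm.existsUnique_gen hA he hW le_rfl
      (SetLike.coe_mem (DirectSum.decompose (𝒜.deg W hW) a d))
    refine ⟨Polynomial.C c * Polynomial.X ^ d, ?_⟩
    rw [hc, hgen, polyHom, Polynomial.coe_eval₂RingHom, Polynomial.eval₂_mul, Polynomial.eval₂_C,
      Polynomial.eval₂_pow, Polynomial.eval₂_X]

variable {aug : 𝒜.toQCAlg ⟶ RelSpec.QCAlg.unit X} (haug : RelCone.IsAugmentation 𝒜 aug)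
  {j0 : X ⟶ 𝒜.toQCAlg.spec} (hj0 : RelCone.IsVertex 𝒜 aug j0)

include hj0 in
lemma le_preimage (O : X.Opens) : O ≤ j0 ⁻¹ᵁ (π ⁻¹ᵁ O) := by
  rw [← Scheme.Hom.comp_preimage, hj0.comp_π]
  exact le_rfl

include hj0 in
lemma appLE_eq {W : X.Opens} (hW : IsAffineOpen W) :
    j0.appLE (π ⁻¹ᵁ W) W (le_preimage hj0 W) = 𝒜.toQCAlg.gammaAff W hW ≫ aug.hom.app (op W) := by
  refine Spec.map_injective ?_
  rw [← cancel_mono (hW.preimage π).fromSpec, IsAffineOpen.SpecMap_appLE_fromSpec j0 (hW.preimage π) hW,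
    hj0.chart W hW, Spec.map_comp, Category.assoc, ← RelSpecLib.ι_eq]

omit [L.IsQuasicoherent] in
include hA haug hj0 in
lemma appLE_tau {W : X.Opens} (hW : IsAffineOpen W) (e : Γ(L, W)) :
    j0.appLE (π ⁻¹ᵁ W) W (le_preimage hj0 W) (tau jL e) = 0 := by
  have h := gammaMap_tau jL e
  rw [𝒜.toQCAlg.gammaMap_app W hW] at h
  refine (congr($(appLE_eq hj0 hW).hom (tau jL e))).trans ?_
  refine (congrArg (aug.hom.app (op W)).hom h).trans ?_
  exact haug W hW 0 _ (hA.2 W hW e)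

include hj0 in
lemma range_inf {W : X.Opens} (hW : IsAffineOpen W) (P : Spec (𝒜.presheaf.obj (op W))) :
    𝒜.toQCAlg.ι W hW P ∈ Set.range j0.base ↔
      ∀ b, (aug.hom.app (op W)).hom b = 0 → b ∈ P.asIdeal := by
  have hsurj : Function.Surjective (aug.hom.app (op W)).hom :=
    fun r => ⟨_, RelSpecLib.str_comp_app aug W r⟩
  have hz : (∀ b, (aug.hom.app (op W)).hom b = 0 → b ∈ P.asIdeal) ↔
      P ∈ Set.range (Spec.map (aug.hom.app (op W))).base := by
    change _ ↔ P ∈ Set.range (PrimeSpectrum.comap (aug.hom.app (op W)).hom)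
    rw [range_comap_of_surjective _ _ hsurj]
    exact Iff.rfl
  rw [hz]
  constructor
  · rintro ⟨x, hx⟩
    have hxW : x ∈ W := by
      have h1 : π (j0 x) ∈ W := by
        rw [hx]
        have h : 𝒜.toQCAlg.ι W hW P ∈ (𝒜.toQCAlg.ι W hW).opensRange := ⟨_, rfl⟩
        rwa [← 𝒜.toQCAlg.π_preimage W hW] at h
      have h2 : (j0 ≫ π) x = x := by rw [hj0.comp_π]; rfl
      rw [← h2]; exact h1
    obtain ⟨y, rfl⟩ := hW.range_fromSpec.ge hxW
    refine ⟨y, (𝒜.toQCAlg.ι W hW).isOpenEmbedding.injective ?_⟩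
    exact (congr($(hj0.chart W hW) y)).symm.trans hx
  · rintro ⟨y, rfl⟩
    exact ⟨hW.fromSpec y, congr($(hj0.chart W hW) y)⟩

omit [L.IsQuasicoherent] in
include hA haug in
lemma aug_polyHom {W : X.Opens} (hW : IsAffineOpen W) (e : Γ(L, W)) (q : Polynomial Γ(X, W)) :
    (aug.hom.app (op W)).hom (polyHom jL e q) = q.coeff 0 := by
  have hz := haug W hW 0 _ (hA.2 W hW e)
  induction q using Polynomial.induction_on' with
  | add a b ha hb => rw [map_add, map_add, ha, hb, Polynomial.coeff_add]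
  | monomial n c =>
    rw [polyHom, Polynomial.coe_eval₂RingHom, Polynomial.eval₂_monomial, map_mul, map_pow]
    rw [hz, RelSpecLib.str_comp_app aug W c]
    rcases Nat.eq_zero_or_pos n with rfl | hn
    · rw [pow_zero, mul_one, Polynomial.coeff_monomial, if_pos rfl]
    · rw [zero_pow hn.ne', mul_zero, Polynomial.coeff_monomial, if_neg hn.ne']

include hA haug hj0 in
/-- The function given by a generator vanishes exactly on the zero section. -/
lemma basicOpen_tau {V0 : 𝒜.toQCAlg.spec.Opens} (hV0 : (V0 : Set 𝒜.toQCAlg.spec) = (Set.range j0.base)ᶜ)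
    {O : X.Opens} {e : Γ(L, O)} (he : IsGen L O e) :
    𝒜.toQCAlg.spec.basicOpen (tau jL e) = V0 ⊓ π ⁻¹ᵁ O := by
  ext z
  by_cases hzO : z ∈ π ⁻¹ᵁ O
  swap
  · exact ⟨fun h => absurd (𝒜.toQCAlg.spec.basicOpen_le _ h) hzO, fun h => absurd h.2 hzO⟩
  obtain ⟨W, hW, hzW, hWO⟩ := exists_isAffineOpen_mem_and_subset (X := X) (x := π z) (U := O) hzO
  replace hWO : W ≤ O := hWO
  have h1 : z ∈ 𝒜.toQCAlg.spec.basicOpen (tau jL e) ↔
      z ∈ 𝒜.toQCAlg.spec.basicOpen (tau jL (QCoh.res L hWO e)) := by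
    rw [← rres_tau jL hWO e]
    change _ ↔ z ∈ 𝒜.toQCAlg.spec.basicOpen ((𝒜.toQCAlg.spec.presheaf.map _).hom _)
    rw [Scheme.basicOpen_res]
    exact ⟨fun h => ⟨hzW, h⟩, fun h => h.2⟩
  have h2 : z ∈ V0 ↔ z ∉ Set.range j0.base := Set.ext_iff.1 hV0 z
  rw [SetLike.mem_coe, SetLike.mem_coe, h1, Opens.mem_inf, and_iff_left hzO, h2]
  obtain ⟨P, rfl⟩ := RelSpecLib.exists_ι_apply_eq 𝒜.toQCAlg z W hW hzW
  rw [range_inf hj0 hW]
  have h3 : 𝒜.toQCAlg.ι W hW P ∈ 𝒜.toQCAlg.spec.basicOpen (tau jL (QCoh.res L hWO e)) ↔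
      jL.app W (QCoh.res L hWO e) ∉ P.asIdeal := by
    rw [← gammaMap_tau jL]
    exact SetLike.ext_iff.1 (ι_preimage_basicOpen hW (tau jL (QCoh.res L hWO e))) P
  rw [h3]
  constructor
  · exact fun h h' => h (h' _ (haug W hW 0 _ (hA.2 W hW _)))
  · intro h ht
    refine h fun b hb => ?_
    obtain ⟨q, rfl⟩ := (polyHom_bijective hA hW (he.restrict hWO)).2 b
    rw [aug_polyHom hA haug hW] at hb
    rw [← Polynomial.X_mul_divX_add q, hb, map_zero, add_zero, map_mul]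
    refine P.asIdeal.mul_mem_right _ ?_
    rw [polyHom, Polynomial.coe_eval₂RingHom, Polynomial.eval₂_X]
    exact ht

include hA haug hj0 in
/-- The function on `V(L)` given by a section of a power of `L`. -/
theorem exists_secFun (hL : PicF.IsInvertible L) {V0 : 𝒜.toQCAlg.spec.Opens}
    (hV0 : (V0 : Set 𝒜.toQCAlg.spec) = (Set.range j0.base)ᶜ) {k : ℕ} (hk : 0 < k) {O : X.Opens}
    (σ : Γ(CohB1.tensorPow L k, O)) :
    ∃ a : Γ(𝒜.toQCAlg.spec, π ⁻¹ᵁ O),
      j0.appLE (π ⁻¹ᵁ O) O (le_preimage hj0 O) a = 0 ∧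
      𝒜.toQCAlg.spec.basicOpen a = π ⁻¹ᵁ (AmpleLib.locus σ) ⊓ V0 ∧
      ∀ (W : X.Opens) (hWO : W ≤ O) (e : Γ(L, W)) (he : IsGen L W e),
        QCoh.rres ((π).preimage_mono hWO) a = (π).app W (co k σ hWO he) * tau jL e ^ k := by
  let ι := {p : Σ W : X.Opens, Γ(L, W) // p.1 ≤ O ∧ IsGen L p.1 p.2}
  let c : ∀ i : ι, Γ(𝒜.toQCAlg.spec, π ⁻¹ᵁ i.1.1) := fun i =>
    (π).app i.1.1 (co k σ i.2.1 i.2.2) * tau jL i.1.2 ^ k
  have hres : ∀ (i : ι) (W : X.Opens) (h : W ≤ i.1.1),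
      QCoh.rres ((π).preimage_mono h) (c i) =
        (π).app W (co k σ (h.trans i.2.1) (i.2.2.restrict h)) * tau jL (QCoh.res L h i.1.2) ^ k := by
    intro i W h
    have hn : QCoh.rres ((π).preimage_mono h) ((π).app i.1.1 (co k σ i.2.1 i.2.2)) =
        (π).app W (QCoh.rres h (co k σ i.2.1 i.2.2)) :=
      congr($((π).naturality (homOfLE h).op).hom _).symm
    simp only [c]
    rw [map_mul, map_pow, rres_tau, hn, co_res]
  have hindep : ∀ (W : X.Opens) (h : W ≤ O) (e e' : Γ(L, W)) (he : IsGen L W e) (he' : IsGen L W e'),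
      (π).app W (co k σ h he) * tau jL e ^ k = (π).app W (co k σ h he') * tau jL e' ^ k := by
    intro W h e e' he he'
    obtain ⟨v, hv, rfl⟩ := exists_unit_smul he he'
    rw [tau_smul, mul_pow, ← co_smul σ h he hv, map_mul, map_pow]
    ring
  obtain ⟨a, ha⟩ : ∃ a : Γ(𝒜.toQCAlg.spec, π ⁻¹ᵁ O),
      ∀ i : ι, QCoh.rres ((π).preimage_mono i.2.1) a = c i := by
    obtain ⟨a, ha, -⟩ := TopCat.Sheaf.existsUnique_gluing' 𝒜.toQCAlg.spec.sheaf
      (fun i : ι => π ⁻¹ᵁ i.1.1) (π ⁻¹ᵁ O) (fun i => homOfLE ((π).preimage_mono i.2.1))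
      (fun z hz => by
        obtain ⟨U, e, hxU, he⟩ := exists_isGen hL (π z)
        exact Opens.mem_iSup.2 ⟨⟨⟨U ⊓ O, QCoh.res L inf_le_left e⟩, inf_le_right, he.restrict _⟩,
          hxU, hz⟩)
      c (fun i i' => by
        change QCoh.rres ((π).preimage_mono (inf_le_left : i.1.1 ⊓ i'.1.1 ≤ i.1.1)) (c i) =
          QCoh.rres ((π).preimage_mono (inf_le_right : i.1.1 ⊓ i'.1.1 ≤ i'.1.1)) (c i')
        rw [hres i _ inf_le_left, hres i' _ inf_le_right]
        exact hindep _ _ _ _ _ _)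
    exact ⟨a, fun i => ha i⟩
  have haW : ∀ (W : X.Opens) (hWO : W ≤ O) (e : Γ(L, W)) (he : IsGen L W e),
      QCoh.rres ((π).preimage_mono hWO) a = (π).app W (co k σ hWO he) * tau jL e ^ k :=
    fun W hWO e he => ha ⟨⟨W, e⟩, hWO, he⟩
  refine ⟨a, ?_, ?_, haW⟩
  · have key : ∀ x : O, ∃ (W : X.Opens) (_ : IsAffineOpen W) (e : Γ(L, W)), x.1 ∈ W ∧ W ≤ O ∧ IsGen L W e := by
      intro x
      obtain ⟨U, e, hxU, he⟩ := exists_isGen hL x.1
      obtain ⟨W, hW, hxW, hWU⟩ := exists_isAffineOpen_mem_and_subset (X := X) (x := x.1) (U := U ⊓ O) ⟨hxU, x.2⟩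
      replace hWU : W ≤ U ⊓ O := hWU
      exact ⟨W, hW, QCoh.res L (hWU.trans inf_le_left) e, hxW, hWU.trans inf_le_right, he.restrict _⟩
    choose W hW e hxW hWO he using key
    refine TopCat.Sheaf.eq_of_locally_eq' X.sheaf W O (fun x => homOfLE (hWO x))
      (fun x hx => Opens.mem_iSup.2 ⟨⟨x, hx⟩, hxW _⟩) _ _ fun x => ?_
    change (X.presheaf.map (homOfLE (hWO x)).op).hom _ = (X.presheaf.map (homOfLE (hWO x)).op).hom 0
    rw [map_zero, ← CommRingCat.comp_apply, Scheme.Hom.appLE_map,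
      ← Scheme.Hom.map_appLE j0 (le_preimage hj0 (W x)) (homOfLE ((π).preimage_mono (hWO x))).op,
      CommRingCat.comp_apply]
    change j0.appLE _ _ _ (QCoh.rres ((π).preimage_mono (hWO x)) a) = 0
    rw [haW _ (hWO x) (e x) (he x), map_mul, map_pow, appLE_tau hA haug hj0 (hW x), zero_pow hk.ne', mul_zero]
  · ext z
    by_cases hzO : z ∈ π ⁻¹ᵁ O
    swap
    · exact ⟨fun h => absurd (𝒜.toQCAlg.spec.basicOpen_le _ h) hzO,
        fun h => absurd (AmpleLib.locus_le σ h.1) hzO⟩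
    obtain ⟨U, e, hxU, he⟩ := exists_isGen hL (π z)
    have he' := he.restrict (inf_le_left : U ⊓ O ≤ U)
    have hzW : z ∈ π ⁻¹ᵁ (U ⊓ O) := ⟨hxU, hzO⟩
    have h1 : z ∈ 𝒜.toQCAlg.spec.basicOpen a ↔
        z ∈ 𝒜.toQCAlg.spec.basicOpen (QCoh.rres ((π).preimage_mono (inf_le_right : U ⊓ O ≤ O)) a) := by
      change _ ↔ z ∈ 𝒜.toQCAlg.spec.basicOpen ((𝒜.toQCAlg.spec.presheaf.map _).hom _)
      rw [Scheme.basicOpen_res]
      exact ⟨fun h => ⟨hzW, h⟩, fun h => h.2⟩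
    rw [SetLike.mem_coe, SetLike.mem_coe, h1, haW _ inf_le_right _ he', Scheme.basicOpen_mul,
      Scheme.basicOpen_pow _ _ hk, basicOpen_tau hA haug hj0 hV0 he', ← Scheme.preimage_basicOpen,
      ← AmpleLib.locus_inf_eq inf_le_right he' σ]
    exact ⟨fun h => ⟨h.1.1, h.2.1⟩, fun h => ⟨⟨h.1, hzW⟩, h.2, hzW⟩⟩

end Groth.Agent.Contr65

end
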