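import Groth.Agent.Contr65.Factor

/-! The canonical contraction through `Spec (g_* O)`. -/

noncomputable section

universe u

open CategoryTheory CategoryTheory.Limits AlgebraicGeometry TopologicalSpace Opposite
open RelProj RelSpec

namespace Groth.Agent.Contr65

variable {X Y : Scheme.{u}} {L : X.Modules} {𝒜 : QCGrAlg X}
  {aug : 𝒜.toQCAlg ⟶ RelSpec.QCAlg.unit X}
  {j0 : X ⟶ 𝒜.toQCAlg.spec} {hj0 : RelCone.IsVertex 𝒜 aug j0} {p : X ⟶ Y} [IsProper p] (hθ : IsIso p.c)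
  {ε₀ : Y ⟶ (contrAlg hj0 p).spec} {q₀ : 𝒜.toQCAlg.spec ⟶ (contrAlg hj0 p).spec} (hεq : IsContr hj0 p ε₀ q₀)

local notation "π" => 𝒜.toQCAlg.π

/-- The comparison with `Spec (g_* O)`. -/
def cmp : (QCAlg.directImage (π ≫ p)).spec ⟶ (contrAlg hj0 p).spec :=
  QCAlg.specMap (fibSnd p (π ≫ p) j0 (j0_comp hj0 p) : contrAlg hj0 p ⟶ QCAlg.directImage (π ≫ p))

lemma cmp_π : cmp (hj0 := hj0) (p := p) ≫ (contrAlg hj0 p).π = (QCAlg.directImage (π ≫ p)).π :=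
  QCAlg.specMap_π _

include hθ in
theorem isIso_cmp : IsIso (cmp (hj0 := hj0) (p := p)) := by
  let φ : contrAlg hj0 p ⟶ QCAlg.directImage (π ≫ p) := fibSnd p (π ≫ p) j0 (j0_comp hj0 p)
  have : IsIso φ.hom := by
    have : ∀ U, IsIso (φ.hom.app U) := fun U =>
      (ConcreteCategory.isIso_iff_bijective _).2 (snd_bijective (hj0 := hj0) hθ U.unop)
    exact NatIso.isIso_of_isIso_app _
  let ψ : QCAlg.directImage (π ≫ p) ⟶ contrAlg hj0 p := ⟨inv φ.hom, by rw [IsIso.comp_inv_eq]; exact φ.comm.symm⟩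
  refine ⟨QCAlg.specMap ψ, ?_, ?_⟩
  · rw [cmp, ← RelSpecLib.specMap_comp, show ψ ≫ φ = 𝟙 _ from QCAlg.hom_ext (IsIso.inv_hom_id φ.hom),
      RelSpecLib.specMap_id]
  · rw [cmp, ← RelSpecLib.specMap_comp, show φ ≫ ψ = 𝟙 _ from QCAlg.hom_ext (IsIso.hom_inv_id φ.hom),
      RelSpecLib.specMap_id]

include hεq in
/-- The canonical morphism is the contraction. -/
theorem comp_cmp (q' : 𝒜.toQCAlg.spec ⟶ (QCAlg.directImage (π ≫ p)).spec)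
    (hq'π : q' ≫ (QCAlg.directImage (π ≫ p)).π = π ≫ p)
    (hq' : AffAlg.algHom (QCAlg.directImage (π ≫ p)).π (π ≫ p) q' hq'π = (QCAlg.directImage (π ≫ p)).gammaMap) :
    q' ≫ cmp (hj0 := hj0) (p := p) = q₀ := by
  refine Scheme.hom_ext_of_forall _ _ fun v => ?_
  obtain ⟨U, hU, hvU, -⟩ := exists_isAffineOpen_mem_and_subset (X := Y) (x := (π ≫ p) v) (U := ⊤) trivial
  refine ⟨(π ≫ p) ⁻¹ᵁ U, hvU, ?_⟩
  have e1 : (π ≫ p) ⁻¹ᵁ U ≤ q₀ ⁻¹ᵁ ((contrAlg hj0 p).π ⁻¹ᵁ U) := (hεq.preimage_π U).ge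
  have e2 : (π ≫ p) ⁻¹ᵁ U ≤ q' ⁻¹ᵁ ((QCAlg.directImage (π ≫ p)).π ⁻¹ᵁ U) := by
    rw [← Scheme.Hom.comp_preimage, hq'π]
  have e3 : (QCAlg.directImage (π ≫ p)).π ⁻¹ᵁ U ≤ cmp (hj0 := hj0) (p := p) ⁻¹ᵁ ((contrAlg hj0 p).π ⁻¹ᵁ U) := by
    rw [← Scheme.Hom.comp_preimage, cmp_π]
  have l1 : (π ≫ p) ⁻¹ᵁ U ≤ (q' ≫ cmp (hj0 := hj0) (p := p)) ⁻¹ᵁ ((contrAlg hj0 p).π ⁻¹ᵁ U) :=
    e2.trans (q'.preimage_mono e3)
  rw [← AffAlgLib.toSpecΓ_map_appLE_fromSpec _ (q' ≫ cmp (hj0 := hj0) (p := p)) (hU.preimage (contrAlg hj0 p).π) l1,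
    ← AffAlgLib.toSpecΓ_map_appLE_fromSpec _ q₀ (hU.preimage (contrAlg hj0 p).π) e1]
  congr 3
  rw [← Scheme.Hom.appLE_comp_appLE q' (cmp (hj0 := hj0) (p := p)) _ _ _ e3 e2]
  have h1 := NatTrans.congr_app
    (RelSpecLib.gammaMap_comp (fibSnd p (π ≫ p) j0 (j0_comp hj0 p) : contrAlg hj0 p ⟶ QCAlg.directImage (π ≫ p)))
    (op U)
  have h2 := NatTrans.congr_app hq' (op U)
  rw [AffAlgLib.algHom_app] at h2
  rw [NatTrans.comp_app, NatTrans.comp_app, AffAlgLib.algHom_app, (fibAlg p (π ≫ p) j0 (j0_comp hj0 p)).gammaMap_app U hU, ← h2] at h1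
  refine h1.symm.trans ?_
  refine CommRingCat.hom_ext (RingHom.ext fun x => ?_)
  exact (hεq.q_app U hU e1 _ x rfl).symm

end Groth.Agent.Contr65

end
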